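import Groth.Agent.Fibres16.FlatFamily.Scheme
import Groth.Agent.Chevalley.Basic

/-!
# Families of base changes over a Noetherian local base

`flat_quot_forall`, `flat_quot_primary`: flatness modulo an ideal containing a power of the maximal
ideal, from a family of test rings which separates that quotient.
-/

set_option autoImplicit false
set_option linter.style.haveILetI false

universe u

open TensorProduct Function IsLocalRing

namespace Groth.Agent.Fibres16.FlatFamily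

attribute [local instance] Algebra.TensorProduct.rightAlgebra

variable {A O B : Type u} [CommRing A] [CommRing O] [CommRing B] [Algebra A O] [Algebra A B] [Algebra O B]
  [IsScalarTower A O B] (T : Submonoid A) [IsLocalization T O] [IsNoetherianRing O] [IsLocalRing O]
  [IsNoetherianRing B] [IsLocalRing B] [IsLocalHom (algebraMap O B)]
  (M : Type u) [AddCommGroup M] [Module B M] [Module O M] [IsScalarTower O B M] [Module.Finite B M]
  (I : Ideal O)

include T in
omit [IsNoetherianRing O] [IsLocalRing O] [IsNoetherianRing B] [IsLocalRing B]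
  [IsLocalHom (algebraMap O B)] in
/-- Base change to a quotient of a localisation of the base. -/
theorem isPushout_quotient : ∃ _ : IsScalarTower A (O ⧸ I) (B ⊗[O] (O ⧸ I)),
    Algebra.IsPushout A (O ⧸ I) B (B ⊗[O] (O ⧸ I)) := by
  haveI ht : IsScalarTower A (O ⧸ I) (B ⊗[O] (O ⧸ I)) := IsScalarTower.of_algebraMap_eq fun a => by
    rw [IsScalarTower.algebraMap_apply A O (B ⊗[O] (O ⧸ I)),
      IsScalarTower.algebraMap_apply O (O ⧸ I) (B ⊗[O] (O ⧸ I)), IsScalarTower.algebraMap_apply A O (O ⧸ I)]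
  refine ⟨ht, ?_⟩
  haveI : Algebra.IsPushout A O B B := by
    rw [Algebra.isPushout_iff]
    exact (isLocalizedModule_iff_isBaseChange T O _).mp (isLocalizedModule_id T B O)
  exact (Algebra.IsPushout.comp_iff A O B B (T := O ⧸ I) (T' := B ⊗[O] (O ⧸ I))).2 inferInstance

omit [Algebra A O] [Algebra A B] [IsScalarTower A O B] [IsLocalization T O] [IsNoetherianRing O] in
theorem localRing_quotient (hI : I ≤ maximalIdeal O) :
    IsLocalRing (B ⊗[O] (O ⧸ I)) ∧ IsNoetherianRing (B ⊗[O] (O ⧸ I)) ∧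
      Surjective (algebraMap B (B ⊗[O] (O ⧸ I))) := by
  have hs : Surjective (algebraMap B (B ⊗[O] (O ⧸ I))) := by
    intro t
    induction t with
    | zero => exact ⟨0, map_zero _⟩
    | add x y hx hy =>
      obtain ⟨x, rfl⟩ := hx
      obtain ⟨y, rfl⟩ := hy
      exact ⟨x + y, map_add _ _ _⟩
    | tmul b c =>
      obtain ⟨c, rfl⟩ := Ideal.Quotient.mk_surjective c
      refine ⟨c • b, ?_⟩
      rw [Algebra.TensorProduct.algebraMap_apply, Algebra.algebraMap_self_apply, smul_tmul,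
        Algebra.smul_def, mul_one]
      rfl
  let χ : B ⊗[O] (O ⧸ I) →ₐ[O] B ⧸ maximalIdeal B :=
    Algebra.TensorProduct.lift (Ideal.Quotient.mkₐ O _) (Ideal.Quotient.liftₐ I (Algebra.ofId O _) fun a ha => by
      show algebraMap O (B ⧸ maximalIdeal B) a = 0
      rw [IsScalarTower.algebraMap_apply O B (B ⧸ maximalIdeal B), Ideal.Quotient.algebraMap_eq,
        Ideal.Quotient.eq_zero_iff_mem]
      exact (IsLocalRing.mem_maximalIdeal _).2 fun hu =>
        (IsLocalRing.mem_maximalIdeal _).1 (hI ha) (isUnit_of_map_unit (algebraMap O B) a hu))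
      fun _ _ => Commute.all _ _
  haveI : Nontrivial (B ⊗[O] (O ⧸ I)) := χ.toRingHom.domain_nontrivial
  exact ⟨IsLocalRing.of_surjective' _ hs, isNoetherianRing_of_surjective B _ _ hs, hs⟩

variable {n : ℕ} (hn : maximalIdeal O ^ n ≤ I) (hI : I ≤ maximalIdeal O)
include T hn hI

/-- Flatness modulo `I` from test rings, at all points over the closed one. -/
theorem flat_quot_forall
    (hfam : ∀ a ∉ I, ∃ (A' : Type u) (_ : CommRing A') (_ : Algebra A A') (_ : Algebra O A')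
      (_ : IsScalarTower A O A') (𝔟 : Ideal A'), I ≤ 𝔟.comap (algebraMap O A') ∧ algebraMap O A' a ∉ 𝔟 ∧
        ∀ (Q : Ideal (B ⊗[A] A')) [Q.IsPrime], Q.comap (algebraMap B (B ⊗[A] A')) = maximalIdeal B →
          FlatCA.FlatAt A' Q ((B ⊗[A] A') ⊗[B] M)) :
    Module.Flat (O ⧸ I) ((O ⧸ I) ⊗[O] M) := by
  obtain ⟨hloc, hnoe, hs⟩ := localRing_quotient (B := B) I hI
  haveI := hloc
  haveI := hnoe
  obtain ⟨_, _⟩ := isPushout_quotient (B := B) T I
  haveI : Nontrivial (O ⧸ I) := Ideal.Quotient.nontrivial_iff.2 fun h => (maximalIdeal.isMaximal O).ne_top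
    (top_le_iff.1 (h ▸ hI))
  haveI : IsLocalRing (O ⧸ I) := IsLocalRing.of_surjective' _ Ideal.Quotient.mk_surjective
  haveI : IsArtinianRing (O ⧸ I) :=
    haveI := Chevalley.isArtinianRing_quotient_pow O n
    Function.Surjective.isArtinianRing (f := Ideal.Quotient.factor hn) (Ideal.Quotient.factor_surjective hn)
  let B₁ := B ⊗[O] (O ⧸ I)
  haveI : Module.Flat (O ⧸ I) (B₁ ⊗[B] M) := by
    refine flat_of_forall (B := B₁) (B₁ ⊗[B] M) fun a ha => ?_
    obtain ⟨a, rfl⟩ := Ideal.Quotient.mk_surjective a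
    obtain ⟨A', _, _, _, _, 𝔟, h𝔟, ha', hfl⟩ := hfam a fun h => ha (Ideal.Quotient.eq_zero_iff_mem.2 h)
    letI : Algebra (O ⧸ I) (A' ⧸ 𝔟) := (Ideal.quotientMap 𝔟 (algebraMap O A') h𝔟).toAlgebra
    haveI : IsScalarTower A (O ⧸ I) (A' ⧸ 𝔟) := IsScalarTower.of_algebraMap_eq (R := A) (S := O ⧸ I)
      (A := A' ⧸ 𝔟) fun x => congrArg (Ideal.Quotient.mk 𝔟) (IsScalarTower.algebraMap_apply A O A' x)
    refine ⟨A' ⧸ 𝔟, inferInstance, inferInstance,
      fun h => ha' (Ideal.Quotient.eq_zero_iff_mem.1 h), fun Q _ hQ => ?_⟩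
    have hg : IsBaseChange B₁ (TensorProduct.mk B B₁ M 1) := TensorProduct.isBaseChange B M B₁
    have H := transfer (A := A) (B := B) (A' := A') (A₁ := O ⧸ I) (B₁ := B₁) (R := A' ⧸ 𝔟) (M := M)
      (M₁ := B₁ ⊗[B] M) (TensorProduct.mk B B₁ M 1) hg
    refine Exists.elim H fun φ hs' => ?_
    have hφB := hs'.1
    have hφ := hs'.2.2.1
    refine hφ Q (hfl _ ?_)
    rw [Ideal.comap_comap, hφB, ← Ideal.comap_comap, hQ]
    exact IsLocalRing.eq_maximalIdeal (Ideal.comap_isMaximal_of_surjective _ hs)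
  exact Module.Flat.of_linearEquiv (Algebra.IsPushout.cancelBaseChange O (O ⧸ I) B B₁ M).symm

/-- Flatness modulo `I` from one point in each test ring, for a primary residue extension. -/
theorem flat_quot_primary {k κ : Type u} [Field k] [Field κ] (ρA : O →+* k) (hρA : Surjective ρA)
    (ρB : B →+* κ) (hρB : Surjective ρB) (ι : k →+* κ) (hcomm : ρB.comp (algebraMap O B) = ι.comp ρA)
    (hι : letI := ι.toAlgebra; ∀ a : κ, IsSeparable k a → a ∈ ι.range)
    (hfam : ∀ a ∉ I, ∃ (A' : Type u) (_ : CommRing A') (_ : Algebra A A') (_ : Algebra O A')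
      (_ : IsScalarTower A O A') (_ : IsLocalRing A') (𝔟 : Ideal A'),
        I ≤ 𝔟.comap (algebraMap O A') ∧ algebraMap O A' a ∉ 𝔟 ∧
        ∃ (Q : Ideal (B ⊗[A] A')) (_ : Q.IsPrime), Q.comap (algebraMap B (B ⊗[A] A')) = maximalIdeal B ∧
          Q.comap (algebraMap A' (B ⊗[A] A')) = maximalIdeal A' ∧
          FlatCA.FlatAt A' Q ((B ⊗[A] A') ⊗[B] M)) :
    Module.Flat (O ⧸ I) ((O ⧸ I) ⊗[O] M) := by
  obtain ⟨hloc, hnoe, hs⟩ := localRing_quotient (B := B) I hI
  haveI := hloc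
  haveI := hnoe
  obtain ⟨_, _⟩ := isPushout_quotient (B := B) T I
  haveI : Nontrivial (O ⧸ I) := Ideal.Quotient.nontrivial_iff.2 fun h => (maximalIdeal.isMaximal O).ne_top
    (top_le_iff.1 (h ▸ hI))
  haveI : IsLocalRing (O ⧸ I) := IsLocalRing.of_surjective' _ Ideal.Quotient.mk_surjective
  haveI : IsArtinianRing (O ⧸ I) :=
    haveI := Chevalley.isArtinianRing_quotient_pow O n
    Function.Surjective.isArtinianRing (f := Ideal.Quotient.factor hn) (Ideal.Quotient.factor_surjective hn)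
  let B₁ := B ⊗[O] (O ⧸ I)
  have hkA : RingHom.ker ρA = maximalIdeal O :=
    IsLocalRing.eq_maximalIdeal (RingHom.ker_isMaximal_of_surjective ρA hρA)
  let ρA₁ : O ⧸ I →+* k := Ideal.Quotient.lift I ρA fun x hx => hkA.ge (hI hx)
  letI : Algebra O κ := (ρB.comp (algebraMap O B)).toAlgebra
  let ρA₂ : O ⧸ I →ₐ[O] κ :=
    { ι.comp ρA₁ with commutes' := fun r => (RingHom.congr_fun hcomm r).symm }
  let ρB₁ : B₁ →ₐ[O] κ := Algebra.TensorProduct.lift
    ({ ρB with commutes' := fun _ => rfl } : B →ₐ[O] κ) ρA₂ fun _ _ => Commute.all _ _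
  have hρB₁ : Surjective ρB₁ := fun c => by
    obtain ⟨b, rfl⟩ := hρB c
    exact ⟨b ⊗ₜ 1, by
      show ρB b * ρA₂ 1 = ρB b
      rw [map_one, mul_one]⟩
  haveI : Module.Flat (O ⧸ I) (B₁ ⊗[B] M) := by
    refine flat_of_primary (B := B₁) (B₁ ⊗[B] M) (fun a ha => primary_of_surjective ρA₁
      (Ideal.Quotient.lift_surjective_of_surjective _ _ hρA) ρB₁.toRingHom hρB₁ ι ?_ hι a ha) fun a ha => ?_
    · refine RingHom.ext fun c => ?_
      show ρB₁ ((1 : B) ⊗ₜ c) = ι (ρA₁ c)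
      show ρB 1 * ι (ρA₁ c) = ι (ρA₁ c)
      rw [map_one, one_mul]
    obtain ⟨a, rfl⟩ := Ideal.Quotient.mk_surjective a
    obtain ⟨A', _, _, _, _, _, 𝔟, h𝔟, ha', Q₀, _, hQB, hQA, hfl⟩ :=
      hfam a fun h => ha (Ideal.Quotient.eq_zero_iff_mem.2 h)
    letI : Algebra (O ⧸ I) (A' ⧸ 𝔟) := (Ideal.quotientMap 𝔟 (algebraMap O A') h𝔟).toAlgebra
    haveI : IsScalarTower A (O ⧸ I) (A' ⧸ 𝔟) := IsScalarTower.of_algebraMap_eq (R := A) (S := O ⧸ I)
      (A := A' ⧸ 𝔟) fun x => congrArg (Ideal.Quotient.mk 𝔟) (IsScalarTower.algebraMap_apply A O A' x)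
    haveI : Nontrivial (A' ⧸ 𝔟) := Ideal.Quotient.nontrivial_iff.2 fun h => ha' (h ▸ Submodule.mem_top)
    haveI hlocR : IsLocalRing (A' ⧸ 𝔟) := IsLocalRing.of_surjective' _ Ideal.Quotient.mk_surjective
    refine ⟨A' ⧸ 𝔟, inferInstance, inferInstance, hlocR,
      fun h => ha' (Ideal.Quotient.eq_zero_iff_mem.1 h), ?_⟩
    have hg : IsBaseChange B₁ (TensorProduct.mk B B₁ M 1) := TensorProduct.isBaseChange B M B₁
    have H := transfer (A := A) (B := B) (A' := A') (A₁ := O ⧸ I) (B₁ := B₁) (R := A' ⧸ 𝔟) (M := M)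
      (M₁ := B₁ ⊗[B] M) (TensorProduct.mk B B₁ M 1) hg
    refine Exists.elim H fun φ hs' => ?_
    have hφB := hs'.1
    have hφ := hs'.2.2.1
    have hex := hs'.2.2.2
    obtain ⟨Q, hQ, hQφ, hQR⟩ := hex Q₀ (maximalIdeal (A' ⧸ 𝔟)) (hQA.trans
      (IsLocalRing.eq_maximalIdeal (Ideal.comap_isMaximal_of_surjective _ Ideal.Quotient.mk_surjective)).symm)
    refine ⟨Q, hQ, ?_, hQR, @hφ Q hQ (by simpa only [hQφ] using hfl)⟩
    rw [← hQφ, Ideal.comap_comap, hφB, ← Ideal.comap_comap] at hQB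
    rw [← Ideal.map_comap_of_surjective _ hs (Q.comap _), hQB]
    exact IsLocalRing.map_maximalIdeal_of_surjective _ hs
  exact Module.Flat.of_linearEquiv (Algebra.IsPushout.cancelBaseChange O (O ⧸ I) B B₁ M).symm

end Groth.Agent.Fibres16.FlatFamily
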