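import Groth.Agent.LocFlat.Basic
import Groth.Prelude.Def_FlatCA
import Mathlib.Algebra.Module.Torsion.Basic
import Mathlib.LinearAlgebra.DirectSum.Finsupp
import Mathlib.LinearAlgebra.Basis.VectorSpace

/-!
# Flatness detected on a family of primes

* `eq_zero_of_forall_lTensor`, `rTensor_injective_of_killed`: tensoring with modules killed by a
  maximal ideal.
* `op`, `psi`: the action of `B ⊗ R` on `X ⊗ k` for a quotient field `k` of `R`.
* `flat_of_detect`: a module which is flat modulo a small ideal `I` and flat at enough primes to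
  detect the elements of `V ⊗ k` is flat.
-/

set_option autoImplicit false
set_option linter.style.haveILetI false

universe u

open TensorProduct Function

namespace Groth.Agent.Fibres16.FlatFamily

attribute [local instance] Algebra.TensorProduct.rightAlgebra

section Field

variable {R : Type u} [CommRing R] (m : Ideal R) [m.IsMaximal]

/-- Coordinates of `V ⊗ I` when `I` is killed by a maximal ideal. -/
theorem eq_zero_of_forall_lTensor {I : Type u} [AddCommGroup I] [Module R I]
    (hI : ∀ a ∈ m, ∀ i : I, a • i = 0) {V : Type u} [AddCommGroup V] [Module R V] {x : V ⊗[R] I}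
    (h : ∀ c : I →ₗ[R] R ⧸ m, c.lTensor V x = 0) : x = 0 := by
  classical
  letI : Field (R ⧸ m) := Ideal.Quotient.field m
  have hT : Module.IsTorsionBySet R I (m : Set R) := fun i a => hI a a.2 i
  letI : Module (R ⧸ m) I := hT.module
  haveI : IsScalarTower R (R ⧸ m) I := Module.IsTorsionBySet.isScalarTower hT
  let b := Module.Basis.ofVectorSpace (R ⧸ m) I
  let e : I ≃ₗ[R] (_ →₀ R ⧸ m) := b.repr.restrictScalars R
  let e' := (LinearEquiv.lTensor V e).trans (TensorProduct.finsuppRight R R V (R ⧸ m) _)
  apply e'.injective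
  rw [map_zero]
  ext i
  have : ∀ y : V ⊗[R] I, e' y i = LinearMap.lTensor V ((Finsupp.lapply i).comp e.toLinearMap) y := by
    intro y
    induction y with
    | zero => simp
    | add a b ha hb => simp [ha, hb]
    | tmul v c => simp [e']
  rw [this, h, Finsupp.zero_apply]

/-- An injective map of modules killed by a maximal ideal is universally injective. -/
theorem rTensor_injective_of_killed {X Y : Type u} [AddCommGroup X] [Module R X] [AddCommGroup Y]
    [Module R Y] (hX : ∀ a ∈ m, ∀ x : X, a • x = 0) (hY : ∀ a ∈ m, ∀ y : Y, a • y = 0)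
    (f : X →ₗ[R] Y) (hf : Injective f) (N : Type u) [AddCommGroup N] [Module R N] :
    Injective (f.rTensor N) := by
  letI : Field (R ⧸ m) := Ideal.Quotient.field m
  have hTX : Module.IsTorsionBySet R X (m : Set R) := fun i a => hX a a.2 i
  have hTY : Module.IsTorsionBySet R Y (m : Set R) := fun i a => hY a a.2 i
  letI : Module (R ⧸ m) X := hTX.module
  letI : Module (R ⧸ m) Y := hTY.module
  haveI : IsScalarTower R (R ⧸ m) X := Module.IsTorsionBySet.isScalarTower hTX
  haveI : IsScalarTower R (R ⧸ m) Y := Module.IsTorsionBySet.isScalarTower hTY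
  let f' : X →ₗ[R ⧸ m] Y :=
    { toFun := f
      map_add' := map_add f
      map_smul' := fun r x => by
        obtain ⟨r, rfl⟩ := Ideal.Quotient.mk_surjective r
        exact f.map_smul r x }
  obtain ⟨g, hg⟩ := f'.exists_leftInverse_of_injective (LinearMap.ker_eq_bot.2 hf)
  have hgf : g.restrictScalars R ∘ₗ f = LinearMap.id := LinearMap.ext fun x => LinearMap.congr_fun hg x
  refine LeftInverse.injective (g := (g.restrictScalars R).rTensor N) fun z => ?_
  rw [← LinearMap.comp_apply, ← LinearMap.rTensor_comp, hgf, LinearMap.rTensor_id, LinearMap.id_apply]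

end Field

section Detect

/-- A module flat modulo a small ideal, all of whose relations die at enough primes, is flat. -/
theorem flat_of_detect {R S : Type u} [CommRing R] [CommRing S] [Algebra R S] {V : Type u}
    [AddCommGroup V] [Module S V] [Module R V] [IsScalarTower R S V] (I m : Ideal R) [m.IsMaximal]
    (hI : IsNilpotent I) (hmI : ∀ a ∈ m, ∀ i ∈ I, a * i = 0)
    [Module.Flat (R ⧸ I) ((R ⧸ I) ⊗[R] V)] (𝒬 : Set (Ideal S))
    (hker : ∀ x : V ⊗[R] I, I.subtype.lTensor V x = 0 → ∀ Q ∈ 𝒬, ∃ s ∉ Q, s • x = 0)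
    (hdet : ∀ z : V ⊗[R] (R ⧸ m), (∀ Q ∈ 𝒬, ∃ s ∉ Q, s • z = 0) → z = 0) : Module.Flat R V := by
  refine LocFlat.flat_criterion_nilpotent V I hI ?_ inferInstance
  rw [← LinearMap.lTensor_inj_iff_rTensor_inj, injective_iff_map_eq_zero]
  intro x hx
  refine eq_zero_of_forall_lTensor m (fun a ha i => Subtype.ext (hmI a ha i i.2)) fun c => hdet _ fun Q hQ => ?_
  obtain ⟨s, hs, hsx⟩ := hker x hx Q hQ
  refine ⟨s, hs, ?_⟩
  show s • AlgebraTensorModule.lTensor S V c x = 0
  rw [← map_smul, hsx, map_zero]

end Detect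

section Op

variable (A B R : Type u) [CommRing A] [CommRing B] [CommRing R] [Algebra A B] [Algebra A R]
  (X : Type u) [AddCommGroup X] [Module B X] [Module A X] [IsScalarTower A B X]
  (k : Type u) [AddCommGroup k] [Module R k] [Module A k] [IsScalarTower A R k]

/-- `B ⊗ R` acting on `X ⊗ k`. -/
noncomputable def op : (B ⊗[A] R) →ₐ[A] Module.End A (X ⊗[A] k) :=
  Algebra.TensorProduct.lift
    ((Module.End.rTensorAlgHom A X k).comp (Algebra.lsmul A A X))
    ((Module.End.lTensorAlgHom A k X).comp (Algebra.lsmul A A k)) fun b r => by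
      refine TensorProduct.ext' fun x c => ?_
      rfl

variable {A B R X k}

@[simp]
theorem op_tmul (b : B) (r : R) (x : X) (c : k) : op A B R X k (b ⊗ₜ r) (x ⊗ₜ c) = (b • x) ⊗ₜ (r • c) := rfl

/-- `op` is natural in the module. -/
theorem op_rTensor {Y : Type u} [AddCommGroup Y] [Module B Y] [Module A Y] [IsScalarTower A B Y]
    (f : X →ₗ[B] Y) (s : B ⊗[A] R) (z : X ⊗[A] k) :
    (f.restrictScalars A).rTensor k (op A B R X k s z) =
      op A B R Y k s ((f.restrictScalars A).rTensor k z) := by
  induction s with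
  | zero => simp
  | add s t hs ht => simp [hs, ht]
  | tmul b r =>
    induction z with
    | zero => simp
    | add a c ha hc => simp [ha, hc]
    | tmul x c => simp

/-- Coordinates are semilinear over `B`. -/
theorem lTensor_op {K : Type u} [AddCommGroup K] [Module A K] (φ : k →ₗ[A] K) (b : B) (z : X ⊗[A] k) :
    φ.lTensor X (op A B R X k (b ⊗ₜ 1) z) = b • φ.lTensor X z := by
  induction z with
  | zero => simp
  | add a c ha hc => simp [ha, hc]
  | tmul x c => simp [TensorProduct.smul_tmul']

end Op

section Psi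

variable (A B R : Type u) [CommRing A] [CommRing B] [CommRing R] [Algebra A B] [Algebra A R]
  (X : Type u) [AddCommGroup X] [Module B X] [Module A X] [IsScalarTower A B X]
  (k : Type u) [CommRing k] [Algebra R k] [Algebra A k] [IsScalarTower A R k]

/-- `X ⊗_A k = ((B ⊗ R) ⊗_B X) ⊗_R k`. -/
noncomputable def psi : X ⊗[A] k ≃ₗ[A] ((B ⊗[A] R) ⊗[B] X) ⊗[R] k :=
  (TensorProduct.comm A X k).trans
    (((AlgebraTensorModule.cancelBaseChange A R k k X).symm.restrictScalars A).trans
      (((AlgebraTensorModule.congr (LinearEquiv.refl k k)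
        (Algebra.IsPushout.cancelBaseChange A R B (B ⊗[A] R) X).symm).restrictScalars A).trans
          ((TensorProduct.comm R k ((B ⊗[A] R) ⊗[B] X)).restrictScalars A)))

variable {A B R X k}

theorem psi_tmul (x : X) (c : k) : psi A B R X k (x ⊗ₜ c) = ((1 : B ⊗[A] R) ⊗ₜ[B] x) ⊗ₜ[R] c := by
  simp [psi]

theorem psi_op (s : B ⊗[A] R) (z : X ⊗[A] k) :
    psi A B R X k (op A B R X k s z) = s • psi A B R X k z := by
  induction s with
  | zero => simp
  | add s t hs ht => simp [hs, ht, add_smul]
  | tmul b r =>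
    induction z with
    | zero => simp
    | add a c ha hc => simp [ha, hc, smul_add]
    | tmul x c =>
      have e1 : ((1 : B) ⊗ₜ[A] r) * algebraMap B (B ⊗[A] R) b = b ⊗ₜ r := by
        simp [Algebra.TensorProduct.algebraMap_apply]
      have e2 : r • ((1 : B ⊗[A] R) ⊗ₜ[B] (b • x)) = ((b ⊗ₜ[A] r : B ⊗[A] R)) ⊗ₜ[B] x := by
        rw [TensorProduct.tmul_smul, ← algebraMap_smul (B ⊗[A] R) r, TensorProduct.smul_tmul',
          TensorProduct.smul_tmul', Algebra.smul_def b (1 : B ⊗[A] R), smul_eq_mul, mul_one]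
        exact congrArg (· ⊗ₜ[B] x) e1
      rw [op_tmul, psi_tmul, psi_tmul, TensorProduct.tmul_smul, TensorProduct.smul_tmul', e2,
        TensorProduct.smul_tmul', TensorProduct.smul_tmul', smul_eq_mul, mul_one]

end Psi

end Groth.Agent.Fibres16.FlatFamily
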