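import Groth.Agent.FlatOpen.Scheme

/-!
# The closed point of a local affine scheme

`eq_closedPoint_of_primeOf`: a point with maximal prime of global sections is the closed point.
-/

set_option autoImplicit false

universe u

open CategoryTheory AlgebraicGeometry

namespace Groth.Agent.Fibres16.FlatFamily

theorem eq_closedPoint_of_primeOf (R : Type u) [CommRing R] [IsLocalRing R]
    [IsLocalRing Γ(Spec (CommRingCat.of R), ⊤)] (y : Spec (CommRingCat.of R))
    (h : AssSch.Stalk.primeOf (isAffineOpen_top (Spec (CommRingCat.of R))) y trivial =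
      IsLocalRing.maximalIdeal Γ(Spec (CommRingCat.of R), ⊤)) :
    y = IsLocalRing.closedPoint R := by
  let hT := isAffineOpen_top (Spec (CommRingCat.of R))
  haveI := hT.primeIdealOf_isMaximal_of_isClosed ⟨IsLocalRing.closedPoint R, trivial⟩
    (IsLocalRing.isClosed_singleton_closedPoint R)
  have := congrArg hT.fromSpec (PrimeSpectrum.ext (x := hT.primeIdealOf ⟨y, trivial⟩)
    (y := hT.primeIdealOf ⟨IsLocalRing.closedPoint R, trivial⟩)
    (h.trans (IsLocalRing.eq_maximalIdeal inferInstance).symm))
  rwa [hT.fromSpec_primeIdealOf, hT.fromSpec_primeIdealOf] at this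

end Groth.Agent.Fibres16.FlatFamily
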