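import Groth.Agent.Fibres16.FlatFamily.Detect
import Groth.Agent.Fibres16.FlatIdeal
import Groth.Agent.Fibres16.NormFlat.Graded
import Groth.Agent.FlatMor.FlatAtBC

/-!
# Flatness checked on families of base changes

* `flatAt_of_flat_map`, `transfer`: moving flatness at primes along flat maps and base change.
* `flat_of_forall`, `flat_of_primary`: EGA IV 11.5 for Artinian local bases.
-/

set_option autoImplicit false
set_option linter.style.haveILetI false

universe u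

open TensorProduct Function IsLocalRing

namespace Groth.Agent.Fibres16.FlatFamily

attribute [local instance] Algebra.TensorProduct.rightAlgebra

/-- The canonical base change map between extended modules. -/
theorem exists_baseChange {B B' S S' : Type u} [CommRing B] [CommRing B'] [CommRing S] [CommRing S']
    [Algebra B B'] [Algebra B S] [Algebra B' S'] [Algebra S S'] [Algebra B S'] [IsScalarTower B B' S']
    [IsScalarTower B S S'] [SMulCommClass B' S S'] {M M' : Type u} [AddCommGroup M] [Module B M]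
    [AddCommGroup M'] [Module B M'] [Module B' M'] [IsScalarTower B B' M'] (g : M →ₗ[B] M')
    (hg : IsBaseChange B' g) : ∃ f : S ⊗[B] M →ₗ[S] S' ⊗[B'] M', IsBaseChange S' f := by
  let c : M →ₗ[B] S' ⊗[B'] M' := ((TensorProduct.mk B' S' M' 1).restrictScalars B).comp g
  have hc : IsBaseChange S' c := hg.comp (TensorProduct.isBaseChange B' M' S')
  refine ⟨c.liftBaseChange S, IsBaseChange.of_comp (TensorProduct.isBaseChange B M S) ?_⟩
  convert hc using 1
  ext x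
  simp

/-- Flatness at a prime passes to flat base changes of the algebra. -/
theorem flatAt_of_flat_map {R S S' : Type u} [CommRing R] [CommRing S] [CommRing S'] [Algebra R S]
    [Algebra R S'] [Algebra S S'] [IsScalarTower R S S'] [Module.Flat S S'] {N N' : Type u}
    [AddCommGroup N] [Module S N] [Module R N] [IsScalarTower R S N] [AddCommGroup N'] [Module S' N']
    [Module R N'] [IsScalarTower R S' N'] [Module S N'] [IsScalarTower S S' N']
    (f : N →ₗ[S] N') (hf : IsBaseChange S' f) (Q : Ideal S') [Q.IsPrime]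
    (h : FlatCA.FlatAt R (Q.comap (algebraMap S S')) N) : FlatCA.FlatAt R Q N' := by
  let Q₀ := Q.comap (algebraMap S S')
  let P := Localization.AtPrime Q
  haveI : Module.Flat S' P := IsLocalization.flat P Q.primeCompl
  haveI : Module.Flat S P := Module.Flat.trans S S' P
  haveI : Module.Flat R (LocalizedModule Q₀.primeCompl N) := h
  haveI : Module.Flat R (P ⊗[S] LocalizedModule Q₀.primeCompl N) := FlatMor.FlatAtBC.flat_tensor R S P _
  have hu : ∀ t : Q₀.primeCompl, IsUnit (algebraMap S P t) := fun t => by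
    rw [IsScalarTower.algebraMap_apply S S' P]
    exact IsLocalization.map_units P (⟨algebraMap S S' t, t.2⟩ : Q.primeCompl)
  let e : LocalizedModule Q.primeCompl N' ≃ₗ[P] P ⊗[S] LocalizedModule Q₀.primeCompl N :=
    (LocalizedModule.equivTensorProduct Q.primeCompl N') ≪≫ₗ
    AlgebraTensorModule.congr (LinearEquiv.refl P P) hf.equiv.symm ≪≫ₗ
    AlgebraTensorModule.cancelBaseChange S S' P P N ≪≫ₗ
    FlatMor.FlatAtBC.tensorLocalizedEquiv Q₀.primeCompl P hu N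
  exact Module.Flat.of_linearEquiv (e.restrictScalars R)

/-- Base change of the data `(A → A', B, M)` along `A → A₁`, `B → B₁` and `A' → R`. -/
theorem transfer {A B A' : Type u} [CommRing A] [CommRing B] [CommRing A'] [Algebra A B] [Algebra A A']
    {A₁ B₁ R : Type u} [CommRing A₁] [CommRing B₁] [CommRing R] [Algebra A A₁] [Algebra B B₁]
    [Algebra A₁ B₁] [Algebra A B₁] [IsScalarTower A B B₁] [IsScalarTower A A₁ B₁]
    [Algebra.IsPushout A A₁ B B₁] [Algebra A₁ R] [Algebra A' R] [Algebra A R] [IsScalarTower A A₁ R]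
    [IsScalarTower A A' R] {M M₁ : Type u} [AddCommGroup M] [Module B M] [AddCommGroup M₁]
    [Module B M₁] [Module B₁ M₁] [IsScalarTower B B₁ M₁] (g : M →ₗ[B] M₁) (hg : IsBaseChange B₁ g) :
    ∃ φ : B ⊗[A] A' →+* B₁ ⊗[A₁] R,
      φ.comp (algebraMap B (B ⊗[A] A')) = (algebraMap B₁ (B₁ ⊗[A₁] R)).comp (algebraMap B B₁) ∧
      φ.comp (algebraMap A' (B ⊗[A] A')) = (algebraMap R (B₁ ⊗[A₁] R)).comp (algebraMap A' R) ∧
      (∀ (Q : Ideal (B₁ ⊗[A₁] R)) [Q.IsPrime],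
        FlatCA.FlatAt A' (Q.comap φ) ((B ⊗[A] A') ⊗[B] M) →
          FlatCA.FlatAt R Q ((B₁ ⊗[A₁] R) ⊗[B₁] M₁)) ∧
      ∀ (Q₀ : Ideal (B ⊗[A] A')) [Q₀.IsPrime] (p : Ideal R) [p.IsPrime],
        Q₀.comap (algebraMap A' (B ⊗[A] A')) = p.comap (algebraMap A' R) →
        ∃ Q : Ideal (B₁ ⊗[A₁] R), Q.IsPrime ∧ Q.comap φ = Q₀ ∧
          Q.comap (algebraMap R (B₁ ⊗[A₁] R)) = p := by
  haveI : IsScalarTower A R (B₁ ⊗[A₁] R) := IsScalarTower.of_algebraMap_eq fun a => by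
    rw [IsScalarTower.algebraMap_apply A A₁ (B₁ ⊗[A₁] R), IsScalarTower.algebraMap_apply A A₁ R,
      ← IsScalarTower.algebraMap_apply A₁ R (B₁ ⊗[A₁] R)]
  let φ : B ⊗[A] A' →ₐ[A] B₁ ⊗[A₁] R := Algebra.TensorProduct.lift
    ((IsScalarTower.toAlgHom A B₁ (B₁ ⊗[A₁] R)).comp (IsScalarTower.toAlgHom A B B₁))
    ((IsScalarTower.toAlgHom A R (B₁ ⊗[A₁] R)).comp (IsScalarTower.toAlgHom A A' R))
    fun _ _ => Commute.all _ _
  letI : Algebra (B ⊗[A] A') (B₁ ⊗[A₁] R) := φ.toRingHom.toAlgebra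
  haveI : IsScalarTower B (B ⊗[A] A') (B₁ ⊗[A₁] R) := IsScalarTower.of_algebraMap_eq fun b => by
    show _ = φ (algebraMap B (B ⊗[A] A') b)
    rw [IsScalarTower.algebraMap_apply B B₁ (B₁ ⊗[A₁] R)]
    simp [φ, Algebra.TensorProduct.algebraMap_apply]
  letI : Algebra A' (B₁ ⊗[A₁] R) := ((algebraMap R (B₁ ⊗[A₁] R)).comp (algebraMap A' R)).toAlgebra
  haveI : IsScalarTower A' R (B₁ ⊗[A₁] R) := IsScalarTower.of_algebraMap_eq fun _ => rfl
  haveI : IsScalarTower A' (B ⊗[A] A') (B₁ ⊗[A₁] R) := IsScalarTower.of_algebraMap_eq fun a => by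
    show _ = φ (algebraMap A' (B ⊗[A] A') a)
    simp [φ, RingHom.algebraMap_toAlgebra]
  haveI : IsScalarTower A A' (B₁ ⊗[A₁] R) := IsScalarTower.of_algebraMap_eq fun a => by
    show _ = algebraMap R (B₁ ⊗[A₁] R) (algebraMap A' R (algebraMap A A' a))
    rw [← IsScalarTower.algebraMap_apply A A' R, ← IsScalarTower.algebraMap_apply A R (B₁ ⊗[A₁] R)]
  haveI : IsScalarTower A (B ⊗[A] A') (B₁ ⊗[A₁] R) :=
    IsScalarTower.of_algebraMap_eq fun a => (φ.commutes a).symm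
  haveI : Algebra.IsPushout A R B (B₁ ⊗[A₁] R) :=
    (Algebra.IsPushout.comp_iff A A₁ B B₁ (T := R) (T' := B₁ ⊗[A₁] R)).2 inferInstance
  haveI : Algebra.IsPushout A' R (B ⊗[A] A') (B₁ ⊗[A₁] R) :=
    (Algebra.IsPushout.comp_iff A A' B (B ⊗[A] A') (T := R) (T' := B₁ ⊗[A₁] R)).1 inferInstance
  haveI : Algebra.IsPushout A' (B ⊗[A] A') R (B₁ ⊗[A₁] R) := Algebra.IsPushout.symm inferInstance
  refine ⟨φ.toRingHom, ?_, ?_, fun Q _ h => ?_, fun Q₀ _ p _ hp => ?_⟩
  · exact (IsScalarTower.algebraMap_eq B (B ⊗[A] A') (B₁ ⊗[A₁] R)).symm.trans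
      (IsScalarTower.algebraMap_eq B B₁ (B₁ ⊗[A₁] R))
  · exact (IsScalarTower.algebraMap_eq A' (B ⊗[A] A') (B₁ ⊗[A₁] R)).symm
  · haveI : SMulCommClass B₁ (B ⊗[A] A') (B₁ ⊗[A₁] R) :=
      ⟨fun b s x => by simp [Algebra.smul_def, mul_left_comm]⟩
    obtain ⟨f, hf⟩ := exists_baseChange (S := B ⊗[A] A') (S' := B₁ ⊗[A₁] R) g hg
    exact FlatMor.FlatAtBC.flatAt_of_baseChange f hf (Q.comap φ.toRingHom) Q rfl h
  · obtain ⟨Q, hQ, h₁, h₂⟩ := FlatMor.FlatAtBC.exists_prime_of_pushout (R := A') (S := B ⊗[A] A')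
      (R' := R) (S' := B₁ ⊗[A₁] R) (Q₀.comap (algebraMap A' (B ⊗[A] A'))) Q₀ p rfl hp.symm
    exact ⟨Q, hQ, h₁, h₂⟩

section Artinian

variable {A B : Type u} [CommRing A] [CommRing B] [Algebra A B] (M : Type u) [AddCommGroup M]
  [Module B M] [Module A M] [IsScalarTower A B M]

/-- The flattening ideal dies in a test ring. -/
theorem map_eq_bot_of_detect (R : Type u) [CommRing R] [Algebra A R] [IsLocalRing R] (J : Ideal A)
    (hJn : IsNilpotent J) (hJfg : J.FG)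
    (hJ : ∀ (R' : Type u) [CommRing R'] [Algebra A R'],
      Module.Flat R' (R' ⊗[A] M) ↔ J.map (algebraMap A R') = ⊥)
    (hsmall : maximalIdeal R * J.map (algebraMap A R) = ⊥)
    (𝒬 : Set (Ideal (B ⊗[A] R)))
    (hflat : ∀ Q ∈ 𝒬, ∃ _ : Q.IsPrime, FlatCA.FlatAt R Q ((B ⊗[A] R) ⊗[B] M))
    (hdet : ∀ z : ((B ⊗[A] R) ⊗[B] M) ⊗[R] (R ⧸ maximalIdeal R),
      (∀ Q ∈ 𝒬, ∃ s ∉ Q, s • z = 0) → z = 0) :
    J.map (algebraMap A R) = ⊥ := by
  let I := J.map (algebraMap A R)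
  refine (hJ R).1 ?_
  let e : (B ⊗[A] R) ⊗[B] M ≃ₗ[R] R ⊗[A] M := Algebra.IsPushout.cancelBaseChange A R B (B ⊗[A] R) M
  haveI : Module.Flat (R ⧸ I) ((R ⧸ I) ⊗[R] ((B ⊗[A] R) ⊗[B] M)) := by
    have h1 : Module.Flat (R ⧸ I) ((R ⧸ I) ⊗[A] M) := (hJ (R ⧸ I)).2 (by
      rw [IsScalarTower.algebraMap_eq A R (R ⧸ I), ← Ideal.map_map]
      exact Ideal.map_quotient_self _)
    exact Module.Flat.of_linearEquiv ((AlgebraTensorModule.congr (LinearEquiv.refl (R ⧸ I) (R ⧸ I)) e).trans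
      (AlgebraTensorModule.cancelBaseChange A R (R ⧸ I) (R ⧸ I) M))
  have hIn : IsNilpotent I := by
    obtain ⟨n, hn⟩ := hJn
    exact ⟨n, by rw [← Ideal.map_pow, hn, Ideal.zero_eq_bot, Ideal.map_bot, Ideal.zero_eq_bot]⟩
  haveI : Module.Flat R ((B ⊗[A] R) ⊗[B] M) := by
    refine flat_of_detect (S := B ⊗[A] R) I (maximalIdeal R) hIn
      (fun a ha i hi => by rw [← Ideal.mem_bot, ← hsmall]; exact Ideal.mul_mem_mul ha hi) 𝒬
      (fun x hx Q hQ => ?_) hdet
    obtain ⟨_, h⟩ := hflat Q hQ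
    exact (NormFlat.flat_localized_iff Q.primeCompl _).1 h I (hJfg.map _) x hx
  exact Module.Flat.of_linearEquiv e.symm

/-- A local test ring in which a chosen ideal becomes small but non-zero. -/
theorem exists_small_quotient (L : Type u) [CommRing L] [IsLocalRing L] [Algebra A L] (J : Ideal A)
    (hfg : J.FG) (hne : J.map (algebraMap A L) ≠ ⊥) :
    ∃ H : Ideal L, IsLocalRing (L ⧸ H) ∧ ∀ [IsLocalRing (L ⧸ H)],
      maximalIdeal (L ⧸ H) * J.map (algebraMap A (L ⧸ H)) = ⊥ ∧ J.map (algebraMap A (L ⧸ H)) ≠ ⊥ ∧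
      (maximalIdeal (L ⧸ H)).comap (algebraMap L (L ⧸ H)) = maximalIdeal L := by
  let H := maximalIdeal L * J.map (algebraMap A L)
  have hH : H ≤ maximalIdeal L := Ideal.mul_le_left
  haveI : Nontrivial (L ⧸ H) := Ideal.Quotient.nontrivial_iff.2
    fun h => (maximalIdeal.isMaximal L).ne_top (top_le_iff.1 (h ▸ hH))
  refine ⟨H, IsLocalRing.of_surjective' (Ideal.Quotient.mk H) Ideal.Quotient.mk_surjective, ?_⟩
  intro
  have hcomap : (maximalIdeal (L ⧸ H)).comap (algebraMap L (L ⧸ H)) = maximalIdeal L :=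
    IsLocalRing.eq_maximalIdeal (Ideal.comap_isMaximal_of_surjective _ Ideal.Quotient.mk_surjective)
  have hmap : J.map (algebraMap A (L ⧸ H)) = (J.map (algebraMap A L)).map (algebraMap L (L ⧸ H)) := by
    rw [Ideal.map_map, ← IsScalarTower.algebraMap_eq]
  refine ⟨?_, fun h => hne ?_, hcomap⟩
  · rw [← Ideal.map_comap_of_surjective (algebraMap L (L ⧸ H)) Ideal.Quotient.mk_surjective
      (maximalIdeal (L ⧸ H)), hcomap, hmap, ← Ideal.map_mul]
    exact Ideal.map_quotient_self H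
  · rw [hmap, Ideal.map_eq_bot_iff_le_ker, Ideal.Quotient.algebraMap_eq, Ideal.mk_ker] at h
    exact Submodule.eq_bot_of_le_smul_of_le_jacobson_bot (maximalIdeal L) _ (hfg.map _)
      (h.trans le_rfl) (IsLocalRing.jacobson_eq_maximalIdeal ⊥ bot_ne_top).ge

variable [IsArtinianRing A] [IsLocalRing A] [IsNoetherianRing B] [IsLocalRing B] [Module.Finite B M]

theorem map_maximalIdeal_le {C : Type u} [CommRing C] [Algebra A C] (P : Ideal C) [P.IsPrime] :
    (maximalIdeal A).map (algebraMap A C) ≤ P := by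
  refine Ideal.map_le_iff_le_comap.2 fun a ha => ?_
  haveI : (P.comap (algebraMap A C)).IsPrime := inferInstance
  exact (IsLocalRing.eq_maximalIdeal (inferInstance : (P.comap (algebraMap A C)).IsMaximal)).symm ▸ ha

omit [IsNoetherianRing B] [IsLocalRing B] [Module.Finite B M] in
theorem exists_flattening :
    ∃ J : Ideal A, IsNilpotent J ∧ J.FG ∧ ∀ (R' : Type u) [CommRing R'] [Algebra A R'],
      Module.Flat R' (R' ⊗[A] M) ↔ J.map (algebraMap A R') = ⊥ := by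
  letI : Field (A ⧸ maximalIdeal A) := Ideal.Quotient.field _
  have hN : IsNilpotent (maximalIdeal A) := by
    rw [← IsLocalRing.jacobson_eq_maximalIdeal ⊥ bot_ne_top]
    exact IsArtinianRing.isNilpotent_jacobson_bot
  obtain ⟨J, hJN, hJ⟩ := FlatIdeal.exists_flattening_ideal (maximalIdeal A) hN M
  obtain ⟨n, hn⟩ := hN
  exact ⟨J, ⟨n, le_bot_iff.1 ((Ideal.pow_right_mono hJN n).trans hn.le)⟩, IsNoetherian.noetherian J, hJ⟩

/-- Flatness is checked on a separating family of base changes, at all points over the closed one. -/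
theorem flat_of_forall (hfam : ∀ a : A, a ≠ 0 → ∃ (A' : Type u) (_ : CommRing A') (_ : Algebra A A'),
      algebraMap A A' a ≠ 0 ∧ ∀ (Q : Ideal (B ⊗[A] A')) [Q.IsPrime],
        Q.comap (algebraMap B (B ⊗[A] A')) = maximalIdeal B → FlatCA.FlatAt A' Q ((B ⊗[A] A') ⊗[B] M)) :
    Module.Flat A M := by
  obtain ⟨J, hJn, hJfg, hJ⟩ := exists_flattening (A := A) M
  suffices hJ0 : J = ⊥ by
    have := (hJ A).2 (by rw [hJ0, Ideal.map_bot])
    exact Module.Flat.of_linearEquiv (TensorProduct.lid A M).symm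
  by_contra hne
  obtain ⟨a, haJ, ha0⟩ := Submodule.exists_mem_ne_zero_of_ne_bot hne
  obtain ⟨A', _, _, ha', hfl⟩ := hfam a ha0
  let 𝔞 : Ideal A' := LinearMap.ker (LinearMap.toSpanSingleton A' A' (algebraMap A A' a))
  obtain ⟨P, hP, hle⟩ := Ideal.exists_le_maximal 𝔞 (fun h => ha' (by
    have : (1 : A') ∈ 𝔞 := h ▸ Submodule.mem_top
    simpa [𝔞] using this))
  let L := Localization.AtPrime P
  have hneL : J.map (algebraMap A L) ≠ ⊥ := fun h => by
    have h0 : algebraMap A L a = 0 := Ideal.mem_bot.1 (h ▸ Ideal.mem_map_of_mem _ haJ)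
    rw [IsScalarTower.algebraMap_apply A A' L, IsLocalization.map_eq_zero_iff P.primeCompl] at h0
    obtain ⟨t, ht⟩ := h0
    exact t.2 (hle (show (t : A') ∈ 𝔞 by simpa [𝔞] using ht))
  obtain ⟨H, hloc, hH⟩ := exists_small_quotient L J hJfg hneL
  obtain ⟨hsmall, hne', -⟩ := @hH hloc
  obtain ⟨φ, hφB, -, hφ, -⟩ := transfer (A := A) (A' := A') (A₁ := A) (B₁ := B) (R := L ⧸ H)
    (LinearMap.id : M →ₗ[B] M) (IsBaseChange.ofEquiv (LinearEquiv.refl B M))
  refine hne' (map_eq_bot_of_detect M (L ⧸ H) J hJn hJfg hJ hsmall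
    {Q | Q.IsPrime ∧ Q.comap (algebraMap B (B ⊗[A] (L ⧸ H))) = maximalIdeal B} ?_ ?_)
  · rintro Q ⟨hQ, hQB⟩
    refine ⟨hQ, hφ Q (hfl _ ?_)⟩
    rw [Ideal.comap_comap, hφB, Algebra.algebraMap_self, RingHom.comp_id, hQB]
  · exact fun z hz => det_all (maximalIdeal A) M (map_maximalIdeal_le _) z fun Q hQ hQB => hz Q ⟨hQ, hQB⟩

/-- Flatness is checked at one point of each member of a separating family when the residue
extension is primary. -/
theorem flat_of_primary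
    (hprim : ∀ [Algebra (A ⧸ maximalIdeal A) (B ⧸ maximalIdeal B)]
      [IsScalarTower A (A ⧸ maximalIdeal A) (B ⧸ maximalIdeal B)],
      ∀ a : B ⧸ maximalIdeal B, IsSeparable (A ⧸ maximalIdeal A) a →
        a ∈ (algebraMap (A ⧸ maximalIdeal A) (B ⧸ maximalIdeal B)).range)
    (hfam : ∀ a : A, a ≠ 0 → ∃ (A' : Type u) (_ : CommRing A') (_ : Algebra A A') (_ : IsLocalRing A'),
      algebraMap A A' a ≠ 0 ∧ ∃ (Q : Ideal (B ⊗[A] A')) (_ : Q.IsPrime),
        Q.comap (algebraMap B (B ⊗[A] A')) = maximalIdeal B ∧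
        Q.comap (algebraMap A' (B ⊗[A] A')) = maximalIdeal A' ∧
        FlatCA.FlatAt A' Q ((B ⊗[A] A') ⊗[B] M)) :
    Module.Flat A M := by
  obtain ⟨J, hJn, hJfg, hJ⟩ := exists_flattening (A := A) M
  suffices hJ0 : J = ⊥ by
    have := (hJ A).2 (by rw [hJ0, Ideal.map_bot])
    exact Module.Flat.of_linearEquiv (TensorProduct.lid A M).symm
  by_contra hne
  obtain ⟨a, haJ, ha0⟩ := Submodule.exists_mem_ne_zero_of_ne_bot hne
  obtain ⟨A', _, _, _, ha', Q₀, hQ₀, hQ₀B, hQ₀A, hfl⟩ := hfam a ha0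
  have hneL : J.map (algebraMap A A') ≠ ⊥ := fun h =>
    ha' (Ideal.mem_bot.1 (h ▸ Ideal.mem_map_of_mem _ haJ))
  obtain ⟨H, hloc, hH⟩ := exists_small_quotient A' J hJfg hneL
  obtain ⟨hsmall, hne', hcomap⟩ := @hH hloc
  obtain ⟨φ, hφB, -, hφ, hex⟩ := transfer (A := A) (A' := A') (A₁ := A) (B₁ := B) (R := A' ⧸ H)
    (LinearMap.id : M →ₗ[B] M) (IsBaseChange.ofEquiv (LinearEquiv.refl B M))
  obtain ⟨Q, hQ, hQφ, hQR⟩ := hex Q₀ (maximalIdeal (A' ⧸ H)) (hQ₀A.trans hcomap.symm)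
  have hQB : Q.comap (algebraMap B (B ⊗[A] (A' ⧸ H))) = maximalIdeal B := by
    rw [← hQ₀B, ← hQφ, Ideal.comap_comap, hφB, Algebra.algebraMap_self, RingHom.comp_id]
  refine hne' (map_eq_bot_of_detect M (A' ⧸ H) J hJn hJfg hJ hsmall {Q} ?_ ?_)
  · intro Q' hQ'
    obtain rfl : Q = Q' := (Set.mem_singleton_iff.1 hQ').symm
    exact ⟨hQ, @hφ Q hQ (by simpa only [hQφ] using hfl)⟩
  · intro z hz
    obtain ⟨s, hs, hsz⟩ := hz Q rfl
    exact det_prim (maximalIdeal A) M (map_maximalIdeal_le _) (map_maximalIdeal_le _) hprim Q hQB hQR z s hs hsz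

end Artinian

end Groth.Agent.Fibres16.FlatFamily
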