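import Groth.Agent.Fibres16.FlatFamily.Basic
import Groth.Agent.FBase.SepClosed
import Groth.Agent.S2512
import Mathlib.RingTheory.Filtration
import Mathlib.RingTheory.EssentialFiniteness
import Mathlib.FieldTheory.IntermediateField.Adjoin.Basic
import Mathlib.RingTheory.TensorProduct.Finite

/-!
# Detecting elements of `M ⊗ k` at primes over the closed point

* `det_all`: all primes over the closed point detect.
* `det_prim`: a single prime detects when the residue extension is primary.
-/

set_option autoImplicit false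
set_option linter.style.haveILetI false

universe u

open TensorProduct Function IsLocalRing

namespace Groth.Agent.Fibres16.FlatFamily

attribute [local instance] Algebra.TensorProduct.rightAlgebra

section Fields

/-- A non-nilpotent element of `κ ⊗ L` is regular when `k` is separably closed in `κ`. -/
theorem eq_zero_of_mul_of_primary {k κ L : Type u} [Field k] [Field κ] [Field L] [Algebra k κ] [Algebra k L]
    (h : separableClosure k κ = ⊥) {t y : κ ⊗[k] L} (ht : ¬ IsNilpotent t) (hy : t * y = 0) : y = 0 := by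
  classical
  obtain ⟨E, hE, t₀, y₀, ht₀, hy₀⟩ : ∃ (E : IntermediateField k κ) (_ : Algebra.EssFiniteType k E)
      (t₀ y₀ : E ⊗[k] L), Algebra.TensorProduct.map E.val (AlgHom.id k L) t₀ = t ∧
        Algebra.TensorProduct.map E.val (AlgHom.id k L) y₀ = y := by
    obtain ⟨S₁, h₁⟩ := TensorProduct.exists_finset (R := k) t
    obtain ⟨S₂, h₂⟩ := TensorProduct.exists_finset (R := k) y
    let T : Finset κ := (S₁ ∪ S₂).image Prod.fst
    let E : IntermediateField k κ := IntermediateField.adjoin k (T : Set κ)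
    have hmem : ∀ p ∈ S₁ ∪ S₂, p.1 ∈ E := fun p hp =>
      IntermediateField.subset_adjoin k _ (Finset.mem_coe.2 (Finset.mem_image.2 ⟨p, hp, rfl⟩))
    refine ⟨E, IntermediateField.essFiniteType_iff.2 (IntermediateField.fg_adjoin_finset T),
      ∑ p ∈ S₁.attach, (⟨p.1.1, hmem _ (Finset.mem_union_left _ p.2)⟩ : E) ⊗ₜ p.1.2,
      ∑ p ∈ S₂.attach, (⟨p.1.1, hmem _ (Finset.mem_union_right _ p.2)⟩ : E) ⊗ₜ p.1.2, ?_, ?_⟩
    · rw [map_sum, h₁, ← Finset.sum_attach S₁]
      exact Finset.sum_congr rfl fun p _ => by simp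
    · rw [map_sum, h₂, ← Finset.sum_attach S₂]
      exact Finset.sum_congr rfl fun p _ => by simp
  let ι := Algebra.TensorProduct.map E.val (AlgHom.id k L)
  have hι : Injective ι := Module.Flat.rTensor_preserves_injective_linearMap E.val.toLinearMap E.val.injective
  haveI : IsNoetherianRing (L ⊗[k] E) := Algebra.EssFiniteType.isNoetherianRing L (L ⊗[k] E)
  haveI : IsNoetherianRing (E ⊗[k] L) :=
    isNoetherianRing_of_ringEquiv _ (Algebra.TensorProduct.comm k L E).toRingEquiv
  have hEbot : separableClosure k E = ⊥ := by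
    refine le_bot_iff.1 fun x hx => ?_
    have : (x : κ) ∈ separableClosure k κ :=
      mem_separableClosure_iff.2 ((mem_separableClosure_iff.1 hx).map E.val E.val.injective)
    rw [h, IntermediateField.mem_bot] at this
    obtain ⟨a, ha⟩ := this
    exact IntermediateField.mem_bot.2 ⟨a, Subtype.ext ha⟩
  have hnil := Groth.Agent.FBase.SepClosed.isPrime_nilradical_tensor hEbot L
  by_contra hy0
  have hz := (biUnion_associatedPrimes_eq_zero_divisors (R := E ⊗[k] L) (M := E ⊗[k] L)).ge
    (show t₀ ∈ _ from ⟨y₀, fun h0 => hy0 (by rw [← hy₀, h0, map_zero]), hι (by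
      rw [smul_eq_mul, map_mul, map_zero, ht₀, hy₀, hy])⟩)
  obtain ⟨P, hP, htP⟩ := Set.mem_iUnion₂.1 hz
  have hmin := Groth.Agent.S2512.result hP
  have hle : P ≤ nilradical (E ⊗[k] L) := hmin.2 ⟨hnil, bot_le⟩ (nilradical_le_prime P (H := hP.isPrime))
  exact ht (ht₀ ▸ (mem_nilradical.1 (hle htP)).map ι)

end Fields

variable {A B R : Type u} [CommRing A] [CommRing B] [CommRing R] [Algebra A B] [Algebra A R]
  (m : Ideal A) [m.IsMaximal] [IsLocalRing B] [IsLocalRing R]
  (M : Type u) [AddCommGroup M] [Module B M] [Module A M] [IsScalarTower A B M] [Module.Finite B M]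

local notation "k" => R ⧸ maximalIdeal R

omit [m.IsMaximal] [IsLocalRing B] in
theorem smul_residue_eq_zero (hmR : m.map (algebraMap A R) ≤ maximalIdeal R) :
    ∀ a ∈ m, ∀ c : k, a • c = 0 := by
  intro a ha c
  obtain ⟨c, rfl⟩ := Ideal.Quotient.mk_surjective c
  rw [← Ideal.Quotient.mkₐ_eq_mk A, ← map_smul, Ideal.Quotient.mkₐ_eq_mk, Ideal.Quotient.eq_zero_iff_mem,
    Algebra.smul_def]
  exact Ideal.mul_mem_right _ _ (hmR (Ideal.mem_map_of_mem _ ha))

/-- Elements killed at every prime over the closed point vanish. -/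
theorem det_all [IsNoetherianRing B] (hmR : m.map (algebraMap A R) ≤ maximalIdeal R)
    (z : ((B ⊗[A] R) ⊗[B] M) ⊗[R] k)
    (h : ∀ Q : Ideal (B ⊗[A] R), Q.IsPrime → Q.comap (algebraMap B (B ⊗[A] R)) = maximalIdeal B →
      ∃ s ∉ Q, s • z = 0) : z = 0 := by
  suffices hw : (psi A B R M k).symm z = 0 from (psi A B R M k).symm.map_eq_zero_iff.1 hw
  set w := (psi A B R M k).symm z with hwdef
  refine eq_zero_of_forall_lTensor m (smul_residue_eq_zero m hmR) fun φ => ?_
  let 𝔞 : Ideal (B ⊗[A] R) := LinearMap.ker (LinearMap.toSpanSingleton (B ⊗[A] R) _ z)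
  have htop : 𝔞 ⊔ (maximalIdeal B).map (algebraMap B (B ⊗[A] R)) = ⊤ := by
    by_contra hne
    obtain ⟨Q, hQ, hle⟩ := Ideal.exists_le_maximal _ hne
    have hcomap : Q.comap (algebraMap B (B ⊗[A] R)) = maximalIdeal B :=
      ((maximalIdeal.isMaximal B).eq_of_le (Ideal.comap_ne_top _ hQ.ne_top)
        (Ideal.map_le_iff_le_comap.1 (le_sup_right.trans hle))).symm
    obtain ⟨s, hs, hsz⟩ := h Q hQ.isPrime hcomap
    exact hs ((le_sup_left.trans hle) (show s ∈ 𝔞 by simpa [𝔞] using hsz))
  obtain ⟨a, ha, p, hp, hap⟩ := Submodule.mem_sup.1 (htop.symm ▸ (Submodule.mem_top (x := (1 : B ⊗[A] R))))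
  have haz : a • z = 0 := by simpa [𝔞] using ha
  have hpz : ∀ n : ℕ, p ^ n • z = z := by
    intro n
    induction n with
    | zero => simp
    | succ n ih =>
      rw [pow_succ, mul_smul, show p • z = z from ((one_smul (B ⊗[A] R) z).symm.trans (by rw [← hap, add_smul, haz, zero_add])).symm, ih]
  haveI : Module.Finite B (M ⊗[A] (A ⧸ m)) := LocFlat.finite_tensor M (A ⧸ m)
  rw [← Submodule.mem_bot B, ← Ideal.iInf_pow_smul_eq_bot_of_isLocalRing (maximalIdeal B)
    (M := M ⊗[A] (A ⧸ m)) (maximalIdeal.isMaximal B).ne_top, Submodule.mem_iInf]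
  intro n
  have hmem : ∀ q ∈ ((maximalIdeal B) ^ n).map (algebraMap B (B ⊗[A] R)), ∀ v : M ⊗[A] k,
      φ.lTensor M (op A B R M k q v) ∈ (maximalIdeal B ^ n • ⊤ : Submodule B (M ⊗[A] (A ⧸ m))) := by
    intro q hq
    refine Submodule.span_induction (p := fun q _ => ∀ v : M ⊗[A] k, φ.lTensor M (op A B R M k q v) ∈ _)
      ?_ ?_ ?_ ?_ hq
    · rintro - ⟨b, hb, rfl⟩ v
      rw [Algebra.TensorProduct.algebraMap_apply, Algebra.algebraMap_self_apply, lTensor_op]
      exact Submodule.smul_mem_smul hb Submodule.mem_top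
    · intro v; simp
    · intro q q' _ _ h h' v
      rw [map_add, LinearMap.add_apply, map_add]
      exact add_mem (h v) (h' v)
    · intro t q _ h v
      rw [smul_eq_mul, mul_comm, map_mul, Module.End.mul_apply]
      exact h _
  have hw' : op A B R M k (p ^ n) w = w := (psi A B R M k).injective (by
    rw [psi_op, hwdef, LinearEquiv.apply_symm_apply, hpz])
  rw [← hw']
  refine hmem _ ?_ w
  rw [Ideal.map_pow]
  exact Ideal.pow_mem_pow hp n

/-- A prime over both closed points detects when the residue extension is primary. -/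
theorem det_prim [IsNoetherianRing B]
    (hmR : m.map (algebraMap A R) ≤ maximalIdeal R) (hmB : m.map (algebraMap A B) ≤ maximalIdeal B)
    (hprim : ∀ [Algebra (A ⧸ m) (B ⧸ maximalIdeal B)] [IsScalarTower A (A ⧸ m) (B ⧸ maximalIdeal B)],
      ∀ a : B ⧸ maximalIdeal B, IsSeparable (A ⧸ m) a → a ∈ (algebraMap (A ⧸ m) (B ⧸ maximalIdeal B)).range)
    (Q : Ideal (B ⊗[A] R)) [Q.IsPrime] (hQB : Q.comap (algebraMap B (B ⊗[A] R)) = maximalIdeal B)
    (hQR : Q.comap (algebraMap R (B ⊗[A] R)) = maximalIdeal R)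
    (z : ((B ⊗[A] R) ⊗[B] M) ⊗[R] k) (s : B ⊗[A] R) (hs : s ∉ Q) (hsz : s • z = 0) : z = 0 := by
  suffices hw : (psi A B R M k).symm z = 0 from (psi A B R M k).symm.map_eq_zero_iff.1 hw
  set w := (psi A B R M k).symm z with hwdef
  have hsw : op A B R M k s w = 0 := (psi A B R M k).injective (by
    rw [psi_op, hwdef, LinearEquiv.apply_symm_apply, map_zero, hsz])
  -- the two residue fields over `A ⧸ m`
  letI : Field (A ⧸ m) := Ideal.Quotient.field m
  letI : Field k := Ideal.Quotient.field _
  letI : Field (B ⧸ maximalIdeal B) := Ideal.Quotient.field _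
  letI : Algebra (A ⧸ m) k :=
    (Ideal.quotientMap (maximalIdeal R) (algebraMap A R) (Ideal.map_le_iff_le_comap.1 hmR)).toAlgebra
  haveI : IsScalarTower A (A ⧸ m) k :=
    IsScalarTower.of_algebraMap_eq (R := A) (S := A ⧸ m) (A := k) fun _ => rfl
  letI : Algebra (A ⧸ m) (B ⧸ maximalIdeal B) :=
    (Ideal.quotientMap (maximalIdeal B) (algebraMap A B) (Ideal.map_le_iff_le_comap.1 hmB)).toAlgebra
  haveI : IsScalarTower A (A ⧸ m) (B ⧸ maximalIdeal B) :=
    IsScalarTower.of_algebraMap_eq (R := A) (S := A ⧸ m) (A := B ⧸ maximalIdeal B) fun _ => rfl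
  have hsep : separableClosure (A ⧸ m) (B ⧸ maximalIdeal B) = ⊥ := le_bot_iff.1 fun a ha =>
    IntermediateField.mem_bot.2 (RingHom.mem_range.1 (hprim a (mem_separableClosure_iff.1 ha)))
  -- the image of `s` in `κ ⊗ k`
  let θ : (B ⊗[A] R) →ₐ[A] (B ⧸ maximalIdeal B) ⊗[A] k :=
    Algebra.TensorProduct.map (Ideal.Quotient.mkₐ A _) (Ideal.Quotient.mkₐ A _)
  have hθ : ∀ (s : B ⊗[A] R) (l : (B ⧸ maximalIdeal B) ⊗[A] k),
      op A B R (B ⧸ maximalIdeal B) k s l = θ s * l := by
    intro s l
    induction s with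
    | zero => simp
    | add s t hs ht => simp [hs, ht, add_mul]
    | tmul b r =>
      induction l with
      | zero => simp
      | add a c ha hc => simp [ha, hc, mul_add]
      | tmul x c => simp [θ, Algebra.smul_def, Ideal.Quotient.mkₐ_eq_mk]
  let τ : (B ⧸ maximalIdeal B) ⊗[A] k →ₐ[A] (B ⊗[A] R) ⧸ Q :=
    Algebra.TensorProduct.lift
      (Ideal.Quotient.liftₐ _ ((Ideal.Quotient.mkₐ A Q).comp Algebra.TensorProduct.includeLeft)
        fun b hb => Ideal.Quotient.eq_zero_iff_mem.2 (show b ∈ Q.comap (algebraMap B (B ⊗[A] R)) by rwa [hQB]))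
      (Ideal.Quotient.liftₐ _ ((Ideal.Quotient.mkₐ A Q).comp Algebra.TensorProduct.includeRight)
        fun b hb => Ideal.Quotient.eq_zero_iff_mem.2 (show b ∈ Q.comap (algebraMap R (B ⊗[A] R)) by rwa [hQR]))
      fun _ _ => Commute.all _ _
  have hτ : τ.comp θ = Ideal.Quotient.mkₐ A Q := by
    apply Algebra.TensorProduct.ext'
    intro b r
    simp [τ, θ, Ideal.Quotient.liftₐ_apply, ← map_mul]
  have hnil : ¬ IsNilpotent (θ s) := fun hn => hs <| Ideal.Quotient.eq_zero_iff_mem.1 <| by
    rw [← Ideal.Quotient.mkₐ_eq_mk A, ← hτ]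
    exact (hn.map τ).eq_zero
  have hreg : ∀ l : (B ⧸ maximalIdeal B) ⊗[A] k, θ s * l = 0 → l = 0 := by
    intro l hl
    haveI : CompatibleSMul A (A ⧸ m) (B ⧸ maximalIdeal B) k := ⟨fun r x y => by
      obtain ⟨r, rfl⟩ := Ideal.Quotient.mk_surjective r
      rw [← Ideal.Quotient.algebraMap_eq, algebraMap_smul, algebraMap_smul, smul_tmul]⟩
    let ξ := Algebra.TensorProduct.equivOfCompatibleSMul A (A ⧸ m) (A ⧸ m) (B ⧸ maximalIdeal B) k
    refine ξ.symm.injective ?_
    rw [map_zero]
    refine eq_zero_of_mul_of_primary hsep (t := ξ.symm (θ s)) (fun hn => hnil ?_) ?_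
    · simpa using hn.map ξ
    · rw [← map_mul, hl, map_zero]
  -- `s` is injective on `X ⊗ k` for `X` killed by the maximal ideal
  have hinj : ∀ (X : Type u) [AddCommGroup X] [Module B X] [Module A X] [IsScalarTower A B X],
      (∀ b ∈ maximalIdeal B, ∀ x : X, b • x = 0) → ∀ y : X ⊗[A] k, op A B R X k s y = 0 → y = 0 := by
    intro X _ _ _ _ hX y hy
    classical
    have hT : Module.IsTorsionBySet B X (maximalIdeal B : Set B) := fun x b => hX b b.2 x
    letI : Module (B ⧸ maximalIdeal B) X := hT.module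
    haveI : IsScalarTower B (B ⧸ maximalIdeal B) X := Module.IsTorsionBySet.isScalarTower hT
    let bs := Module.Basis.ofVectorSpace (B ⧸ maximalIdeal B) X
    let f : X →ₗ[B] (_ →₀ B ⧸ maximalIdeal B) := bs.repr.toLinearMap.restrictScalars B
    have hf : Injective ((f.restrictScalars A).rTensor k) :=
      rTensor_injective_of_killed m
        (fun a ha x => by rw [← algebraMap_smul B a x]; exact hX _ (hmB (Ideal.mem_map_of_mem _ ha)) x)
        (fun a ha x => by
          refine Finsupp.ext fun i => ?_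
          rw [Finsupp.smul_apply, Finsupp.zero_apply, Algebra.smul_def, IsScalarTower.algebraMap_apply A B]
          rw [Ideal.Quotient.algebraMap_eq, Ideal.Quotient.eq_zero_iff_mem.2 (hmB (Ideal.mem_map_of_mem _ ha)),
            zero_mul])
        _ bs.repr.injective _
    refine hf ?_
    rw [map_zero]
    set y' := (f.restrictScalars A).rTensor k y with hy'
    apply (TensorProduct.finsuppLeft A A (B ⧸ maximalIdeal B) k _).injective
    rw [map_zero]
    ext i
    have hproj : ∀ v, TensorProduct.finsuppLeft A A (B ⧸ maximalIdeal B) k _ v i =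
        ((Finsupp.lapply i : _ →ₗ[B] B ⧸ maximalIdeal B).restrictScalars A).rTensor k v := by
      intro v
      induction v with
      | zero => simp
      | add a b ha hb => simp [ha, hb]
      | tmul g c => simp
    rw [hproj, Finsupp.zero_apply]
    refine hreg _ ?_
    rw [← hθ, ← op_rTensor, hy', ← op_rTensor, hy, map_zero, map_zero]
  -- devissage along powers of the maximal ideal
  let N₀ : Submodule B M := m.map (algebraMap A B) • ⊤
  let V := M ⧸ N₀
  have hVm : ∀ a ∈ m, ∀ v : V, a • v = 0 := by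
    intro a ha v
    obtain ⟨v, rfl⟩ := Submodule.Quotient.mk_surjective _ v
    rw [← algebraMap_smul B a (Submodule.Quotient.mk v : V), ← Submodule.Quotient.mk_smul, Submodule.Quotient.mk_eq_zero]
    exact Submodule.smul_mem_smul (Ideal.mem_map_of_mem _ ha) trivial
  have hinjV : Injective ((N₀.mkQ.restrictScalars A).rTensor k) := by
    rw [injective_iff_map_eq_zero]
    intro v hv
    obtain ⟨y, rfl⟩ := (rTensor_exact k (f := N₀.subtype.restrictScalars A) (g := N₀.mkQ.restrictScalars A)
      (LinearMap.exact_subtype_mkQ N₀) (Submodule.mkQ_surjective _) v).1 hv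
    clear hv
    induction y with
    | zero => simp
    | add a b ha hb => rw [map_add, ha, hb, add_zero]
    | tmul n c =>
      rw [LinearMap.rTensor_tmul]
      show (n : M) ⊗ₜ[A] c = 0
      have hn := n.2
      refine Submodule.smul_induction_on (p := fun v : M => ∀ c : k, v ⊗ₜ[A] c = 0) hn ?_
        (fun x y hx hy c => by rw [add_tmul, hx, hy, add_zero]) c
      intro b hb v _
      refine Submodule.span_induction (p := fun b _ => ∀ (v : M) (c : k), (b • v) ⊗ₜ[A] c = 0)
        ?_ ?_ ?_ ?_ hb v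
      · rintro - ⟨a, ha, rfl⟩ v c
        rw [algebraMap_smul, smul_tmul, smul_residue_eq_zero m hmR a ha, tmul_zero]
      · intro v c; simp
      · intro b b' _ _ h h' v c; rw [add_smul, add_tmul, h, h', add_zero]
      · intro t b _ h v c; rw [smul_eq_mul, mul_comm, mul_smul]; exact h _ _
  refine hinjV ?_
  rw [map_zero]
  set v := (N₀.mkQ.restrictScalars A).rTensor k w with hv
  have hsv : op A B R V k s v = 0 := by rw [hv, ← op_rTensor, hsw, map_zero]
  let F : ℕ → Submodule B V := fun n => maximalIdeal B ^ n • ⊤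
  have hlevel : ∀ n, ((F n).mkQ.restrictScalars A).rTensor k v = 0 := by
    intro n
    induction n with
    | zero =>
      haveI : Subsingleton (V ⧸ F 0) := Submodule.Quotient.subsingleton_iff.2 (by simp [F])
      exact Subsingleton.elim _ _
    | succ n ih =>
      have hle : F (n + 1) ≤ F n := Submodule.smul_mono_left (Ideal.pow_le_pow_right n.le_succ)
      let pr : (V ⧸ F (n + 1)) →ₗ[B] V ⧸ F n := Submodule.factor hle
      let K := LinearMap.ker pr
      have hK : ∀ b ∈ maximalIdeal B, ∀ x : K, b • x = 0 := by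
        intro b hb ⟨x, hx⟩
        obtain ⟨x, rfl⟩ := Submodule.Quotient.mk_surjective _ x
        apply Subtype.ext
        show b • Submodule.Quotient.mk x = (0 : V ⧸ F (n + 1))
        rw [← Submodule.Quotient.mk_smul, Submodule.Quotient.mk_eq_zero]
        have hx' : x ∈ F n := (Submodule.Quotient.mk_eq_zero _).1 hx
        show b • x ∈ maximalIdeal B ^ (n + 1) • (⊤ : Submodule B V)
        rw [pow_succ', Submodule.mul_smul]
        exact Submodule.smul_mem_smul hb hx'
      set u := ((F (n + 1)).mkQ.restrictScalars A).rTensor k v with hu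
      have hsu : op A B R _ k s u = 0 := by rw [hu, ← op_rTensor, hsv, map_zero]
      have hpu : (pr.restrictScalars A).rTensor k u = 0 := by
        rw [hu, ← LinearMap.comp_apply, ← LinearMap.rTensor_comp]
        exact ih
      obtain ⟨y, hy⟩ := (rTensor_exact k (f := K.subtype.restrictScalars A) (g := pr.restrictScalars A)
        (LinearMap.exact_subtype_ker_map pr) (Submodule.factor_surjective hle) u).1 hpu
      have hKi : Injective ((K.subtype.restrictScalars A).rTensor k) :=
        rTensor_injective_of_killed m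
          (fun a ha x => by rw [← algebraMap_smul B a x]; exact hK _ (hmB (Ideal.mem_map_of_mem _ ha)) x)
          (fun a ha x => by
            obtain ⟨x, rfl⟩ := Submodule.Quotient.mk_surjective _ x
            rw [← algebraMap_smul B a (Submodule.Quotient.mk x : V ⧸ F (n + 1)), ← Submodule.Quotient.mk_smul, algebraMap_smul,
              hVm a ha, Submodule.Quotient.mk_zero])
          _ K.injective_subtype _
      have hy0 : y = 0 := hinj K hK y (hKi (by rw [op_rTensor, hy, hsu, map_zero]))
      rw [← hy, hy0, map_zero]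
  refine eq_zero_of_forall_lTensor m (smul_residue_eq_zero m hmR) fun φ => ?_
  haveI : Module.Finite B (V ⊗[A] (A ⧸ m)) := LocFlat.finite_tensor V (A ⧸ m)
  rw [← Submodule.mem_bot B, ← Ideal.iInf_pow_smul_eq_bot_of_isLocalRing (maximalIdeal B)
    (M := V ⊗[A] (A ⧸ m)) (maximalIdeal.isMaximal B).ne_top, Submodule.mem_iInf]
  intro n
  have h0 : ((F n).mkQ.restrictScalars A).rTensor (A ⧸ m) (φ.lTensor V v) = 0 := by
    rw [← LinearMap.comp_apply, LinearMap.rTensor_comp_lTensor, ← LinearMap.lTensor_comp_rTensor,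
      LinearMap.comp_apply, hlevel n, map_zero]
  obtain ⟨y, hy⟩ := (rTensor_exact (A ⧸ m) (f := (F n).subtype.restrictScalars A)
    (g := (F n).mkQ.restrictScalars A) (LinearMap.exact_subtype_mkQ (F n)) (Submodule.mkQ_surjective _) _).1 h0
  rw [← hy]
  clear hy h0
  induction y with
  | zero => simp
  | add a b ha hb => rw [map_add]; exact add_mem ha hb
  | tmul x c =>
    rw [LinearMap.rTensor_tmul]
    show (x : V) ⊗ₜ[A] c ∈ _
    refine Submodule.smul_induction_on (p := fun v : V => v ⊗ₜ[A] c ∈ _) x.2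
      (fun b hb v _ => by rw [← TensorProduct.smul_tmul']; exact Submodule.smul_mem_smul hb trivial)
      (fun a b ha hb => by rw [add_tmul]; exact add_mem ha hb)

end Groth.Agent.Fibres16.FlatFamily
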