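import Groth.Agent.Fibres16.FlatFamily.Adic

/-!
# Families of local test rings, at the points over both closed points

* `flat_of_forall_local`: Artinian base.
* `flat_quot_forall_local`: quotient of a Noetherian local base.
-/

set_option autoImplicit false
set_option linter.style.haveILetI false

universe u

open TensorProduct Function IsLocalRing

namespace Groth.Agent.Fibres16.FlatFamily

attribute [local instance] Algebra.TensorProduct.rightAlgebra

section

variable {A B : Type u} [CommRing A] [CommRing B] [Algebra A B] (M : Type u) [AddCommGroup M]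
  [Module B M] [Module A M] [IsScalarTower A B M] [IsArtinianRing A] [IsLocalRing A]
  [IsNoetherianRing B] [IsLocalRing B] [Module.Finite B M]

omit [IsArtinianRing A] in
/-- The primes over both closed points detect. -/
theorem det_both {R : Type u} [CommRing R] [Algebra A R] [IsLocalRing R]
    (hmR : (maximalIdeal A).map (algebraMap A R) ≤ maximalIdeal R)
    (z : ((B ⊗[A] R) ⊗[B] M) ⊗[R] (R ⧸ maximalIdeal R))
    (h : ∀ Q : Ideal (B ⊗[A] R), Q.IsPrime → Q.comap (algebraMap B (B ⊗[A] R)) = maximalIdeal B →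
      Q.comap (algebraMap R (B ⊗[A] R)) = maximalIdeal R → ∃ s ∉ Q, s • z = 0) : z = 0 := by
  refine det_all (maximalIdeal A) M hmR z fun Q hQ hQB => ?_
  by_cases hQR : Q.comap (algebraMap R (B ⊗[A] R)) = maximalIdeal R
  · exact h Q hQ hQB hQR
  obtain ⟨r, hr, hrQ⟩ : ∃ r ∈ maximalIdeal R, algebraMap R (B ⊗[A] R) r ∉ Q := by
    by_contra! hle
    exact hQR ((IsLocalRing.maximalIdeal.isMaximal R).eq_of_le
      (Ideal.comap_ne_top _ hQ.ne_top) fun r hr => hle r hr).symm
  refine ⟨_, hrQ, ?_⟩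
  rw [algebraMap_smul]
  clear h
  induction z with
  | zero => simp
  | add a b ha hb => rw [smul_add, ha, hb, add_zero]
  | tmul v c =>
    rw [← tmul_smul]
    obtain ⟨c, rfl⟩ := Ideal.Quotient.mk_surjective c
    rw [← Ideal.Quotient.mkₐ_eq_mk R, ← map_smul, Ideal.Quotient.mkₐ_eq_mk, smul_eq_mul,
      Ideal.Quotient.eq_zero_iff_mem.2 (Ideal.mul_mem_right c _ hr), tmul_zero]

/-- Flatness is checked on a separating family of local base changes, at the points over both
closed points. -/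
theorem flat_of_forall_local
    (hfam : ∀ a : A, a ≠ 0 → ∃ (A' : Type u) (_ : CommRing A') (_ : Algebra A A') (_ : IsLocalRing A'),
      algebraMap A A' a ≠ 0 ∧ ∀ (Q : Ideal (B ⊗[A] A')) [Q.IsPrime],
        Q.comap (algebraMap B (B ⊗[A] A')) = maximalIdeal B →
        Q.comap (algebraMap A' (B ⊗[A] A')) = maximalIdeal A' →
        FlatCA.FlatAt A' Q ((B ⊗[A] A') ⊗[B] M)) :
    Module.Flat A M := by
  obtain ⟨J, hJn, hJfg, hJ⟩ := exists_flattening (A := A) M
  suffices hJ0 : J = ⊥ by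
    have := (hJ A).2 (by rw [hJ0, Ideal.map_bot])
    exact Module.Flat.of_linearEquiv (TensorProduct.lid A M).symm
  by_contra hne
  obtain ⟨a, haJ, ha0⟩ := Submodule.exists_mem_ne_zero_of_ne_bot hne
  obtain ⟨A', _, _, _, ha', hfl⟩ := hfam a ha0
  have hneL : J.map (algebraMap A A') ≠ ⊥ := fun h =>
    ha' (Ideal.mem_bot.1 (h ▸ Ideal.mem_map_of_mem _ haJ))
  obtain ⟨H, hloc, hH⟩ := exists_small_quotient A' J hJfg hneL
  obtain ⟨hsmall, hne', hcomap⟩ := @hH hloc
  obtain ⟨φ, hφB, hφA, hφ, -⟩ := transfer (A := A) (A' := A') (A₁ := A) (B₁ := B) (R := A' ⧸ H)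
    (LinearMap.id : M →ₗ[B] M) (IsBaseChange.ofEquiv (LinearEquiv.refl B M))
  refine hne' (map_eq_bot_of_detect M (A' ⧸ H) J hJn hJfg hJ hsmall
    {Q | Q.IsPrime ∧ Q.comap (algebraMap B (B ⊗[A] (A' ⧸ H))) = maximalIdeal B ∧
      Q.comap (algebraMap (A' ⧸ H) (B ⊗[A] (A' ⧸ H))) = maximalIdeal (A' ⧸ H)} ?_ ?_)
  · rintro Q ⟨hQ, hQB, hQR⟩
    refine ⟨hQ, hφ Q (hfl _ ?_ ?_)⟩
    · rw [Ideal.comap_comap, hφB, Algebra.algebraMap_self, RingHom.comp_id, hQB]
    · rw [Ideal.comap_comap, hφA, ← Ideal.comap_comap, hQR, hcomap]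
  · exact fun z hz => det_both M (map_maximalIdeal_le _) z fun Q hQ hQB hQR => hz Q ⟨hQ, hQB, hQR⟩

end

variable {A O B : Type u} [CommRing A] [CommRing O] [CommRing B] [Algebra A O] [Algebra A B] [Algebra O B]
  [IsScalarTower A O B] (T : Submonoid A) [IsLocalization T O] [IsNoetherianRing O] [IsLocalRing O]
  [IsNoetherianRing B] [IsLocalRing B] [IsLocalHom (algebraMap O B)]
  (M : Type u) [AddCommGroup M] [Module B M] [Module O M] [IsScalarTower O B M] [Module.Finite B M]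
  (I : Ideal O) {n : ℕ} (hn : maximalIdeal O ^ n ≤ I) (hI : I ≤ maximalIdeal O)
include T hn hI

/-- Flatness modulo `I` from local test rings, at the points over both closed points. -/
theorem flat_quot_forall_local
    (hfam : ∀ a ∉ I, ∃ (A' : Type u) (_ : CommRing A') (_ : Algebra A A') (_ : Algebra O A')
      (_ : IsScalarTower A O A') (_ : IsLocalRing A') (𝔟 : Ideal A'),
        I ≤ 𝔟.comap (algebraMap O A') ∧ algebraMap O A' a ∉ 𝔟 ∧
        ∀ (Q : Ideal (B ⊗[A] A')) [Q.IsPrime], Q.comap (algebraMap B (B ⊗[A] A')) = maximalIdeal B →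
          Q.comap (algebraMap A' (B ⊗[A] A')) = maximalIdeal A' →
          FlatCA.FlatAt A' Q ((B ⊗[A] A') ⊗[B] M)) :
    Module.Flat (O ⧸ I) ((O ⧸ I) ⊗[O] M) := by
  obtain ⟨hloc, hnoe, hs⟩ := localRing_quotient (B := B) I hI
  haveI := hloc
  haveI := hnoe
  obtain ⟨_, _⟩ := isPushout_quotient (B := B) T I
  haveI : Nontrivial (O ⧸ I) := Ideal.Quotient.nontrivial_iff.2 fun h => (maximalIdeal.isMaximal O).ne_top
    (top_le_iff.1 (h ▸ hI))
  haveI : IsLocalRing (O ⧸ I) := IsLocalRing.of_surjective' _ Ideal.Quotient.mk_surjective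
  haveI : IsArtinianRing (O ⧸ I) :=
    haveI := Chevalley.isArtinianRing_quotient_pow O n
    Function.Surjective.isArtinianRing (f := Ideal.Quotient.factor hn) (Ideal.Quotient.factor_surjective hn)
  let B₁ := B ⊗[O] (O ⧸ I)
  haveI : Module.Flat (O ⧸ I) (B₁ ⊗[B] M) := by
    refine flat_of_forall_local (B := B₁) (B₁ ⊗[B] M) fun a ha => ?_
    obtain ⟨a, rfl⟩ := Ideal.Quotient.mk_surjective a
    obtain ⟨A', _, _, _, _, _, 𝔟, h𝔟, ha', hfl⟩ := hfam a fun h => ha (Ideal.Quotient.eq_zero_iff_mem.2 h)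
    letI : Algebra (O ⧸ I) (A' ⧸ 𝔟) := (Ideal.quotientMap 𝔟 (algebraMap O A') h𝔟).toAlgebra
    haveI : IsScalarTower A (O ⧸ I) (A' ⧸ 𝔟) := IsScalarTower.of_algebraMap_eq (R := A) (S := O ⧸ I)
      (A := A' ⧸ 𝔟) fun x => congrArg (Ideal.Quotient.mk 𝔟) (IsScalarTower.algebraMap_apply A O A' x)
    haveI : Nontrivial (A' ⧸ 𝔟) := Ideal.Quotient.nontrivial_iff.2 fun h => ha' (h ▸ Submodule.mem_top)
    haveI hlocR : IsLocalRing (A' ⧸ 𝔟) := IsLocalRing.of_surjective' _ Ideal.Quotient.mk_surjective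
    refine ⟨A' ⧸ 𝔟, inferInstance, inferInstance, hlocR,
      fun h => ha' (Ideal.Quotient.eq_zero_iff_mem.1 h), fun Q _ hQ hQR => ?_⟩
    have hg : IsBaseChange B₁ (TensorProduct.mk B B₁ M 1) := TensorProduct.isBaseChange B M B₁
    have H := transfer (A := A) (B := B) (A' := A') (A₁ := O ⧸ I) (B₁ := B₁) (R := A' ⧸ 𝔟) (M := M)
      (M₁ := B₁ ⊗[B] M) (TensorProduct.mk B B₁ M 1) hg
    refine Exists.elim H fun φ hs' => ?_
    have hφ := hs'.2.2.1
    refine hφ Q (hfl _ ?_ ?_)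
    · rw [Ideal.comap_comap, hs'.1, ← Ideal.comap_comap, hQ]
      exact IsLocalRing.eq_maximalIdeal (Ideal.comap_isMaximal_of_surjective _ hs)
    · rw [Ideal.comap_comap, hs'.2.1, ← Ideal.comap_comap, hQR]
      exact IsLocalRing.eq_maximalIdeal (Ideal.comap_isMaximal_of_surjective _ Ideal.Quotient.mk_surjective)
  exact Module.Flat.of_linearEquiv (Algebra.IsPushout.cancelBaseChange O (O ⧸ I) B B₁ M).symm

end Groth.Agent.Fibres16.FlatFamily
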