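import Groth.Agent.Fibres16.FlatFamily.Scheme
import Mathlib.AlgebraicGeometry.ResidueField

/-!
# Residue fields of points through local rings of charts
-/

set_option autoImplicit false
set_option linter.style.haveILetI false

universe u

open CategoryTheory CategoryTheory.Limits AlgebraicGeometry TopologicalSpace Opposite
open Function
open Groth.Agent.AssSch.Stalk

noncomputable section

namespace Groth.Agent.Fibres16.FlatFamily

/-- The residue field of a point is a quotient of the local ring on a chart. -/
theorem exists_residue_hom {X : Scheme.{u}} {U : X.Opens} (hU : IsAffineOpen U) (x : X) (hx : x ∈ U)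
    (L : Type u) [CommRing L] [Algebra Γ(X, U) L] [IsLocalization.AtPrime L (primeOf hU x hx)] :
    ∃ ρ : L →+* X.residueField x, Surjective ρ ∧
      ρ.comp (algebraMap Γ(X, U) L) = (X.evaluation U x hx).hom := by
  letI : Algebra Γ(X, U) (X.presheaf.stalk x) := (X.presheaf.germ U x hx).hom.toAlgebra
  haveI : IsLocalization.AtPrime (X.presheaf.stalk x) (primeOf hU x hx) := hU.isLocalization_stalk ⟨x, hx⟩
  let e := IsLocalization.algEquiv (primeOf hU x hx).primeCompl L (X.presheaf.stalk x)
  refine ⟨(X.residue x).hom.comp e.toRingEquiv.toRingHom, (X.residue_surjective x).comp e.surjective, ?_⟩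
  refine RingHom.ext fun a => ?_
  show X.residue x (e (algebraMap Γ(X, U) L a)) = _
  rw [e.commutes]
  rfl

/-- The residue map at a point commutes with a map of schemes on charts. -/
theorem residueFieldMap_chart {X Y : Scheme.{u}} (f : X ⟶ Y) {V : Y.Opens} {U : X.Opens} (e : U ≤ f ⁻¹ᵁ V)
    (x : X) (hx : x ∈ U) (a : Γ(Y, V)) :
    X.evaluation U x hx (f.appLE V U e a) = f.residueFieldMap x (Y.evaluation V (f x) (e hx) a) := by
  show X.residue x (X.presheaf.germ U x hx (f.appLE V U e a)) =
    (Y.residue (f x) ≫ f.residueFieldMap x) (Y.presheaf.germ V (f x) (e hx) a)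
  rw [Scheme.residue_residueFieldMap]
  show _ = X.residue x ((f.stalkMap x).hom (Y.presheaf.germ V (f x) (e hx) a))
  rw [FlatOpen.Scheme.stalkMap_germ f e x hx a]

end Groth.Agent.Fibres16.FlatFamily
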