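import Groth.Agent.Fibres16.FlatFamily.Core
import Groth.Agent.FlatOpen.Scheme
import Groth.Agent.SchDom.Scheme
import Groth.Agent.LimTop.PullSec
import Groth.Agent.QCoh.FiniteType
import Groth.Prelude.Def_Coh

/-!
# Families of base changes on affine charts

* `exists_piece`: points of an affine piece of `X ×_Y Y'` and flatness there.
* `localizeAt`: passing to the local ring of a prime.
* `flat_of_quotients`: flatness from small quotients of the base.
* `primary_of_surjective`: transport of primary residue extensions.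
-/

set_option autoImplicit false
set_option linter.style.haveILetI false

universe u

open CategoryTheory CategoryTheory.Limits AlgebraicGeometry TopologicalSpace Opposite
open TensorProduct Function
open Groth.Agent.AssSch.Stalk

noncomputable section

namespace Groth.Agent.Fibres16.FlatFamily

attribute [local instance] Algebra.TensorProduct.rightAlgebra

/-- Transport of flatness at a prime along a ring isomorphism of base changes. -/
theorem flatAt_of_ringEquiv {R B C S : Type u} [CommRing R] [CommRing B] [CommRing C] [CommRing S]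
    [Algebra R C] [Algebra R S] [Algebra B C] [Algebra B S] (ε : S ≃+* C)
    (hR : ∀ r, ε (algebraMap R S r) = algebraMap R C r) (hB : ∀ b, ε (algebraMap B S b) = algebraMap B C b)
    {M N N₀ : Type u} [AddCommGroup M] [Module B M] [AddCommGroup N] [Module B N] [Module C N] [Module R N]
    [IsScalarTower B C N] [IsScalarTower R C N] [AddCommGroup N₀] [Module B N₀] [Module S N₀] [Module R N₀]
    [IsScalarTower B S N₀] [IsScalarTower R S N₀] (v : M →ₗ[B] N) (hv : IsBaseChange C v)
    (v₀ : M →ₗ[B] N₀) (hv₀ : IsBaseChange S v₀) (P : Ideal C) [P.IsPrime] (h : FlatCA.FlatAt R P N) :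
    FlatCA.FlatAt R (P.comap ε.toRingHom) N₀ := by
  letI : Algebra C S := ε.symm.toRingHom.toAlgebra
  haveI : IsScalarTower R C S := IsScalarTower.of_algebraMap_eq fun a => by
    show _ = ε.symm (algebraMap R C a)
    rw [← hR, ε.symm_apply_apply]
  haveI : IsScalarTower B C S := IsScalarTower.of_algebraMap_eq fun b => by
    show _ = ε.symm (algebraMap B C b)
    rw [← hB, ε.symm_apply_apply]
  haveI : Module.Flat C S :=
    Module.Flat.of_linearEquiv (LinearEquiv.ofBijective (Algebra.linearMap C S) ε.symm.bijective).symm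
  letI : Module C N₀ := Module.compHom N₀ (algebraMap C S)
  haveI : IsScalarTower C S N₀ := IsScalarTower.of_algebraMap_smul fun _ _ => rfl
  haveI : IsScalarTower B C N₀ := IsScalarTower.of_algebraMap_smul fun b x => by
    show algebraMap C S (algebraMap B C b) • x = b • x
    rw [← IsScalarTower.algebraMap_apply, algebraMap_smul]
  let j : N →ₗ[C] N₀ := hv.lift v₀
  have hj : IsBaseChange S j := IsBaseChange.of_comp hv (by
    rw [hv.lift_comp]
    exact hv₀)
  refine flatAt_of_flat_map j hj _ ?_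
  have hQ : (P.comap ε.toRingHom).comap (algebraMap C S) = P := by
    ext c
    show ε (ε.symm c) ∈ P ↔ c ∈ P
    rw [ε.apply_symm_apply]
  simp only [hQ]
  exact h

/-- Points and flatness on an affine piece of a fibre product. -/
theorem exists_piece {X Y Y' : Scheme.{u}} (f : X ⟶ Y) (F : X.Modules) [F.IsQuasicoherent] (g : Y' ⟶ Y)
    {US : Y.Opens} {W : X.Opens} {W' : Y'.Opens} (hS : IsAffineOpen US) (hW : IsAffineOpen W)
    (hW' : IsAffineOpen W') (eW : W ≤ f ⁻¹ᵁ US) (eW' : W' ≤ g ⁻¹ᵁ US) :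
    letI := (f.appLE US W eW).hom.toAlgebra
    letI := (g.appLE US W' eW').hom.toAlgebra
    (∀ (Q : Ideal (Γ(X, W) ⊗[Γ(Y, US)] Γ(Y', W'))) [Q.IsPrime],
      ∃ (x' : ↥(pullback f g)) (hx : pullback.fst f g x' ∈ W) (hy : pullback.snd f g x' ∈ W'),
        Q.comap (algebraMap Γ(X, W) _) = primeOf hW _ hx ∧
        Q.comap (algebraMap Γ(Y', W') _) = primeOf hW' _ hy ∧
        (FlatMod.IsFlatOverAt (pullback.snd f g) ((Scheme.Modules.pullback (pullback.fst f g)).obj F) x' →
          FlatCA.FlatAt Γ(Y', W') Q ((Γ(X, W) ⊗[Γ(Y, US)] Γ(Y', W')) ⊗[Γ(X, W)] Γ(F, W)))) ∧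
    ∀ (x' : ↥(pullback f g)) (hx : pullback.fst f g x' ∈ W) (hy : pullback.snd f g x' ∈ W'),
      ∃ (Q : Ideal (Γ(X, W) ⊗[Γ(Y, US)] Γ(Y', W'))) (_ : Q.IsPrime),
        Q.comap (algebraMap Γ(X, W) _) = primeOf hW _ hx ∧
        Q.comap (algebraMap Γ(Y', W') _) = primeOf hW' _ hy ∧
        (FlatMod.IsFlatOverAt (pullback.snd f g) ((Scheme.Modules.pullback (pullback.fst f g)).obj F) x' →
          FlatCA.FlatAt Γ(Y', W') Q ((Γ(X, W) ⊗[Γ(Y, US)] Γ(Y', W')) ⊗[Γ(X, W)] Γ(F, W))) := by
  letI := (f.appLE US W eW).hom.toAlgebra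
  letI := (g.appLE US W' eW').hom.toAlgebra
  let B := Γ(X, W)
  let A' := Γ(Y', W')
  let O := SchDom.prodOpen f g W W'
  obtain ⟨hP, e, he⟩ := SchDom.prod_piece f g hS hW hW' eW eW'
  let C := Γ(pullback f g, O)
  let ε : B ⊗[Γ(Y, US)] A' ≃+* C :=
    (Algebra.TensorProduct.comm Γ(Y, US) B A').toRingEquiv.trans e
  have hεB : ∀ b, ε (algebraMap B _ b) =
      (pullback.fst f g).appLE W O (SchDom.prodOpen_le_fst f g W W') b := fun b => by
    show e ((1 : A') ⊗ₜ b) = _
    rw [he, map_one, one_mul]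
  have hεA : ∀ a, ε (algebraMap A' (B ⊗[Γ(Y, US)] A') a) =
      (pullback.snd f g).appLE W' O (SchDom.prodOpen_le_snd f g W W') a := fun a => by
    show e (a ⊗ₜ (1 : B)) = _
    rw [he, map_one, mul_one]
  have hpt : ∀ (x' : ↥(pullback f g)) (hx' : x' ∈ O), ∃ (Q : Ideal (B ⊗[Γ(Y, US)] A')) (_ : Q.IsPrime),
      Q = (primeOf hP x' hx').comap ε.toRingHom ∧
      Q.comap (algebraMap B _) = primeOf hW (pullback.fst f g x') hx'.1 ∧
      Q.comap (algebraMap A' _) = primeOf hW' (pullback.snd f g x') hx'.2 ∧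
      (FlatMod.IsFlatOverAt (pullback.snd f g) ((Scheme.Modules.pullback (pullback.fst f g)).obj F) x' →
        FlatCA.FlatAt A' Q ((B ⊗[Γ(Y, US)] A') ⊗[B] Γ(F, W))) := by
    intro x' hx'
    refine ⟨(primeOf hP x' hx').comap ε.toRingHom, inferInstance, rfl, ?_, ?_, fun h => ?_⟩
    · rw [Ideal.comap_comap, show ε.toRingHom.comp (algebraMap B _) =
        ((pullback.fst f g).appLE W O (SchDom.prodOpen_le_fst f g W W')).hom from RingHom.ext hεB]
      exact congrArg PrimeSpectrum.asIdeal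
        (IsAffineOpen.comap_primeIdealOf_appLE W hW O hP (SchDom.prodOpen_le_fst f g W W') hx')
    · rw [Ideal.comap_comap, show ε.toRingHom.comp (algebraMap A' _) =
        ((pullback.snd f g).appLE W' O (SchDom.prodOpen_le_snd f g W W')).hom from RingHom.ext hεA]
      exact congrArg PrimeSpectrum.asIdeal
        (IsAffineOpen.comap_primeIdealOf_appLE W' hW' O hP (SchDom.prodOpen_le_snd f g W W') hx')
    · let F' := (Scheme.Modules.pullback (pullback.fst f g)).obj F
      haveI : F'.IsQuasicoherent := QCoh.isQuasicoherent_pullback (pullback.fst f g) F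
      have h' := (FlatOpen.Scheme.isFlatOverAt_iff (pullback.snd f g) hW' hP
        (SchDom.prodOpen_le_snd f g W W') x' hx' F').1 h
      letI : Algebra A' C := ((pullback.snd f g).appLE W' O (SchDom.prodOpen_le_snd f g W W')).hom.toAlgebra
      letI : Module A' Γ(F', O) := Module.compHom _ (algebraMap A' C)
      haveI : IsScalarTower A' C Γ(F', O) := IsScalarTower.of_algebraMap_smul fun _ _ => rfl
      letI : Algebra B C := ((pullback.fst f g).appLE W O (SchDom.prodOpen_le_fst f g W W')).hom.toAlgebra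
      letI : Module B Γ(F', O) := LimTop.secModule (pullback.fst f g) F (SchDom.prodOpen_le_fst f g W W')
      haveI : IsScalarTower B C Γ(F', O) := IsScalarTower.of_algebraMap_smul fun _ _ => rfl
      have hbc := LimTop.isBaseChange_unitSec (pullback.fst f g) F (SchDom.prodOpen_le_fst f g W W') hW hP
      exact flatAt_of_ringEquiv ε hεA hεB _ hbc _ (TensorProduct.isBaseChange B Γ(F, W) _) _ h'
  refine ⟨fun Q _ => ?_, fun x' hx hy => ?_⟩
  · let P : Ideal C := Q.comap ε.symm.toRingHom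
    haveI := hP.isOpenImmersion_fromSpec
    let x' := hP.fromSpec ⟨P, inferInstance⟩
    have hx' : x' ∈ O := hP.range_fromSpec.subset ⟨_, rfl⟩
    have hprime : primeOf hP x' hx' = P :=
      congrArg PrimeSpectrum.asIdeal (hP.fromSpec.isOpenEmbedding.injective (hP.fromSpec_primeIdealOf ⟨x', hx'⟩))
    obtain ⟨Q', hQ', hQ'eq, h1, h2, h3⟩ := hpt x' hx'
    have hQQ : Q' = Q := by
      rw [hQ'eq, hprime]
      ext c
      simp [P]
    subst hQQ
    exact ⟨x', hx'.1, hx'.2, h1, h2, h3⟩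
  · obtain ⟨Q, hQ, -, h⟩ := hpt x' ⟨hx, hy⟩
    exact ⟨Q, hQ, h⟩

/-- Passing to the local ring at `q`. -/
theorem localizeAt {A B A' : Type u} [CommRing A] [CommRing B] [CommRing A'] [Algebra A B] [Algebra A A']
    (q : Ideal B) [q.IsPrime] (Bq : Type u) [CommRing Bq] [Algebra B Bq] [IsLocalization.AtPrime Bq q]
    [IsLocalRing Bq] [Algebra A Bq] [IsScalarTower A B Bq] (M : Type u) [AddCommGroup M] [Module B M] :
    ∃ φ : B ⊗[A] A' →+* Bq ⊗[A] A',
      φ.comp (algebraMap B (B ⊗[A] A')) =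
        (algebraMap (Bq) (Bq ⊗[A] A')).comp
          (algebraMap B (Bq)) ∧
      φ.comp (algebraMap A' (B ⊗[A] A')) = algebraMap A' (Bq ⊗[A] A') ∧
      (∀ (Q : Ideal (Bq ⊗[A] A')) [Q.IsPrime],
        FlatCA.FlatAt A' (Q.comap φ) ((B ⊗[A] A') ⊗[B] M) →
          FlatCA.FlatAt A' Q ((Bq ⊗[A] A') ⊗[Bq]
            (Bq ⊗[B] M))) ∧
      ∀ (Q₀ : Ideal (B ⊗[A] A')) [Q₀.IsPrime], Q₀.comap (algebraMap B (B ⊗[A] A')) = q →
        ∃ Q : Ideal (Bq ⊗[A] A'), Q.IsPrime ∧ Q.comap φ = Q₀ ∧
          Q.comap (algebraMap (Bq) _) =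
            IsLocalRing.maximalIdeal (Bq) := by
  let φ : B ⊗[A] A' →ₐ[A] Bq ⊗[A] A' :=
    Algebra.TensorProduct.map (IsScalarTower.toAlgHom A B Bq) (AlgHom.id A A')
  letI : Algebra (B ⊗[A] A') (Bq ⊗[A] A') := φ.toRingHom.toAlgebra
  haveI : IsScalarTower B (B ⊗[A] A') (Bq ⊗[A] A') := IsScalarTower.of_algebraMap_eq fun b => by
    show _ = φ (algebraMap B (B ⊗[A] A') b)
    simp [φ, Algebra.TensorProduct.algebraMap_apply]
  haveI : IsScalarTower A' (B ⊗[A] A') (Bq ⊗[A] A') := IsScalarTower.of_algebraMap_eq fun a => by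
    show _ = φ (algebraMap A' (B ⊗[A] A') a)
    simp [φ, RingHom.algebraMap_toAlgebra]
  haveI : IsScalarTower A (B ⊗[A] A') (Bq ⊗[A] A') :=
    IsScalarTower.of_algebraMap_eq fun a => (φ.commutes a).symm
  haveI : Algebra.IsPushout B Bq (B ⊗[A] A') (Bq ⊗[A] A') :=
    (Algebra.IsPushout.comp_iff A B A' (B ⊗[A] A') (T := Bq) (T' := Bq ⊗[A] A')).1 inferInstance
  haveI : Algebra.IsPushout B (B ⊗[A] A') Bq (Bq ⊗[A] A') := Algebra.IsPushout.symm inferInstance
  haveI : Module.Flat B Bq := IsLocalization.flat Bq q.primeCompl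
  haveI : Module.Flat (B ⊗[A] A') (Bq ⊗[A] A') :=
    Module.Flat.isBaseChange B (B ⊗[A] A') Bq _ (Algebra.IsPushout.out (R := B) (S := B ⊗[A] A') (R' := Bq)
      (S' := Bq ⊗[A] A'))
  refine ⟨φ.toRingHom, ?_, ?_, fun Q _ h => ?_, fun Q₀ _ hQ₀ => ?_⟩
  · exact (IsScalarTower.algebraMap_eq B (B ⊗[A] A') (Bq ⊗[A] A')).symm.trans
      (IsScalarTower.algebraMap_eq B Bq (Bq ⊗[A] A'))
  · exact (IsScalarTower.algebraMap_eq A' (B ⊗[A] A') (Bq ⊗[A] A')).symm
  · haveI : SMulCommClass Bq (B ⊗[A] A') (Bq ⊗[A] A') :=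
      ⟨fun b s x => by rw [Algebra.smul_def s, Algebra.smul_def s, mul_smul_comm]⟩
    obtain ⟨j, hj⟩ := exists_baseChange (S := B ⊗[A] A') (S' := Bq ⊗[A] A')
      (TensorProduct.mk B Bq M 1) (TensorProduct.isBaseChange B M Bq)
    exact flatAt_of_flat_map j hj Q h
  · obtain ⟨Q, hQ, h₁, h₂⟩ := FlatMor.FlatAtBC.exists_prime_of_pushout (R := B) (S := B ⊗[A] A')
      (R' := Bq) (S' := Bq ⊗[A] A') q Q₀ (IsLocalRing.maximalIdeal Bq) hQ₀
      (IsLocalization.AtPrime.under_maximalIdeal Bq q)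
    exact ⟨Q, hQ, h₁, h₂⟩

/-- Flatness of the localised module. -/
theorem flat_localization_iff {A B : Type u} [CommRing A] [CommRing B] [Algebra A B] (q : Ideal B) [q.IsPrime]
    (M : Type u) [AddCommGroup M] [Module B M] [Module A M] [IsScalarTower A B M] :
    Module.Flat A (Localization.AtPrime q ⊗[B] M) ↔ FlatCA.FlatAt A q M :=
  ⟨fun _ => Module.Flat.of_linearEquiv ((LocalizedModule.equivTensorProduct q.primeCompl M).restrictScalars A),
    fun h => by
      haveI : Module.Flat A (LocalizedModule q.primeCompl M) := h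
      exact Module.Flat.of_linearEquiv ((LocalizedModule.equivTensorProduct q.primeCompl M).restrictScalars A).symm⟩

/-- Flatness from flatness over arbitrarily small quotients of the base. -/
theorem flat_of_quotients {R S : Type u} [CommRing R] [CommRing S] [Algebra R S] [IsNoetherianRing R]
    [IsNoetherianRing S] [IsLocalRing R] [IsLocalRing S] [IsLocalHom (algebraMap R S)]
    (M : Type u) [AddCommGroup M] [Module R M] [Module S M] [IsScalarTower R S M] [Module.Finite S M]
    (h : ∀ N : ℕ, ∃ I : Ideal R, I ≤ IsLocalRing.maximalIdeal R ^ N ∧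
      Module.Flat (R ⧸ I) ((R ⧸ I) ⊗[R] M)) : Module.Flat R M := by
  refine LocFlat.flat_of_forall_pow (S := S) M (IsLocalRing.maximalIdeal R)
    (LocFlat.map_le_jacobson _ (IsLocalRing.maximalIdeal.isMaximal R).ne_top) fun n X Y _ _ _ _ a ha hY => ?_
  obtain ⟨I, hI, hflat⟩ := h n
  have hkY : ∀ r ∈ I, ∀ y : Y, r • y = 0 := fun r hr y => by
    rw [← Submodule.mem_bot R, ← hY]
    exact Submodule.smul_mem_smul (hI hr) trivial
  have hkX : ∀ r ∈ I, ∀ x : X, r • x = 0 := fun r hr x => ha (by rw [map_smul, hkY r hr, map_zero])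
  have hTX : Module.IsTorsionBySet R X (I : Set R) := fun i a => hkX a a.2 i
  have hTY : Module.IsTorsionBySet R Y (I : Set R) := fun i a => hkY a a.2 i
  letI : Module (R ⧸ I) X := hTX.module
  letI : Module (R ⧸ I) Y := hTY.module
  haveI : IsScalarTower R (R ⧸ I) X := Module.IsTorsionBySet.isScalarTower hTX
  haveI : IsScalarTower R (R ⧸ I) Y := Module.IsTorsionBySet.isScalarTower hTY
  let a' : X →ₗ[R ⧸ I] Y :=
    { toFun := a
      map_add' := map_add a
      map_smul' := fun r x => by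
        obtain ⟨r, rfl⟩ := Ideal.Quotient.mk_surjective r
        exact a.map_smul r x }
  have h1 : Injective (a'.rTensor ((R ⧸ I) ⊗[R] M)) :=
    Module.Flat.rTensor_preserves_injective_linearMap a' ha
  let eX := AlgebraTensorModule.cancelBaseChange R (R ⧸ I) (R ⧸ I) X M
  let eY := AlgebraTensorModule.cancelBaseChange R (R ⧸ I) (R ⧸ I) Y M
  have key : ∀ z, a.rTensor M (eX z) = eY (a'.rTensor ((R ⧸ I) ⊗[R] M) z) := by
    intro z
    induction z with
    | zero => simp
    | add p q hp hq => simp [hp, hq]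
    | tmul x w =>
      induction w with
      | zero => simp
      | add p q hp hq => simp [TensorProduct.tmul_add, hp, hq]
      | tmul c v =>
        simp only [eX, eY, LinearMap.rTensor_tmul, AlgebraTensorModule.cancelBaseChange_tmul]
        rw [show a (c • x) = c • a x from a'.map_smul c x]
        rfl
  intro z w hzw
  obtain ⟨z, rfl⟩ := eX.surjective z
  obtain ⟨w, rfl⟩ := eX.surjective w
  rw [key, key] at hzw
  rw [h1 (eY.injective hzw)]

/-- Primary residue extensions along surjections. -/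
theorem primary_of_surjective {A B k κ : Type u} [CommRing A] [CommRing B] [IsLocalRing A] [IsLocalRing B]
    [Algebra A B] [Field k] [Field κ] (ρA : A →+* k) (hρA : Surjective ρA) (ρB : B →+* κ)
    (hρB : Surjective ρB) (ι : k →+* κ) (hcomm : ρB.comp (algebraMap A B) = ι.comp ρA)
    (hι : letI := ι.toAlgebra; ∀ a : κ, IsSeparable k a → a ∈ ι.range)
    [Algebra (A ⧸ IsLocalRing.maximalIdeal A) (B ⧸ IsLocalRing.maximalIdeal B)]
    [IsScalarTower A (A ⧸ IsLocalRing.maximalIdeal A) (B ⧸ IsLocalRing.maximalIdeal B)]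
    (a : B ⧸ IsLocalRing.maximalIdeal B) (ha : IsSeparable (A ⧸ IsLocalRing.maximalIdeal A) a) :
    a ∈ (algebraMap (A ⧸ IsLocalRing.maximalIdeal A) (B ⧸ IsLocalRing.maximalIdeal B)).range := by
  letI := ι.toAlgebra
  letI : Field (A ⧸ IsLocalRing.maximalIdeal A) := Ideal.Quotient.field _
  letI : Field (B ⧸ IsLocalRing.maximalIdeal B) := Ideal.Quotient.field _
  have hkA : RingHom.ker ρA = IsLocalRing.maximalIdeal A :=
    IsLocalRing.eq_maximalIdeal (RingHom.ker_isMaximal_of_surjective ρA hρA)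
  have hkB : RingHom.ker ρB = IsLocalRing.maximalIdeal B :=
    IsLocalRing.eq_maximalIdeal (RingHom.ker_isMaximal_of_surjective ρB hρB)
  let eA : (A ⧸ IsLocalRing.maximalIdeal A) →+* k := Ideal.Quotient.lift _ ρA fun x hx => hkA.ge hx
  let eB : (B ⧸ IsLocalRing.maximalIdeal B) →+* κ := Ideal.Quotient.lift _ ρB fun x hx => hkB.ge hx
  have hsq : eB.comp (algebraMap (A ⧸ IsLocalRing.maximalIdeal A) (B ⧸ IsLocalRing.maximalIdeal B)) =
      (algebraMap k κ).comp eA := by
    refine Ideal.Quotient.ringHom_ext (RingHom.ext fun x => ?_)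
    show eB (algebraMap _ _ (algebraMap A (A ⧸ IsLocalRing.maximalIdeal A) x)) = ι (ρA x)
    rw [← IsScalarTower.algebraMap_apply, IsScalarTower.algebraMap_apply A B (B ⧸ IsLocalRing.maximalIdeal B)]
    exact RingHom.congr_fun hcomm x
  have hsep : IsSeparable k (eB a) := by
    let P := (minpoly (A ⧸ IsLocalRing.maximalIdeal A) a).map eA
    have hP : P.Separable := Polynomial.Separable.map ha
    refine hP.of_dvd (minpoly.dvd k (eB a) ?_)
    rw [Polynomial.aeval_def, Polynomial.eval₂_map, ← hsq, ← Polynomial.hom_eval₂, ← Polynomial.aeval_def,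
      minpoly.aeval, map_zero]
  obtain ⟨c, hc⟩ := hι _ hsep
  obtain ⟨c, rfl⟩ := hρA c
  refine ⟨Ideal.Quotient.mk _ c, eB.injective ?_⟩
  rw [← RingHom.comp_apply, hsq, ← hc]
  rfl

end Groth.Agent.Fibres16.FlatFamily
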