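import Groth.Agent.Fibres16.FlatFamily.Adic
import Groth.Agent.Fibres16.FlatFamily.Residue

/-!
# Flatness at a point from quotients of the local ring of the base
-/

set_option autoImplicit false
set_option linter.style.haveILetI false

universe u

open CategoryTheory CategoryTheory.Limits AlgebraicGeometry TopologicalSpace Opposite
open TensorProduct Function
open Groth.Agent.AssSch.Stalk

noncomputable section

namespace Groth.Agent.Fibres16.FlatFamily

attribute [local instance] Algebra.TensorProduct.rightAlgebra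

/-- Flatness at a prime read on any localisation. -/
theorem flatAt_of_flat_localization {A B L : Type u} [CommRing A] [CommRing B] [Algebra A B] [CommRing L]
    [Algebra B L] [Algebra A L] [IsScalarTower A B L] (q : Ideal B) [q.IsPrime] [IsLocalization.AtPrime L q]
    (M : Type u) [AddCommGroup M] [Module B M] [Module A M] [IsScalarTower A B M]
    [Module.Flat A (L ⊗[B] M)] : FlatCA.FlatAt A q M := by
  haveI : IsLocalizedModule q.primeCompl (TensorProduct.mk B L M 1) :=
    (isLocalizedModule_iff_isBaseChange q.primeCompl L _).mpr (TensorProduct.isBaseChange B M L)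
  exact Module.Flat.of_linearEquiv
    ((IsLocalizedModule.iso q.primeCompl (TensorProduct.mk B L M 1)).restrictScalars A)

/-- The structure map of a chart factors through the local ring of the base. -/
theorem appLE_specMap_fromSpecStalk {Y : Scheme.{u}} (y : Y) {US : Y.Opens} (hy : y ∈ US) (R : CommRingCat.{u})
    (φ : Y.presheaf.stalk y ⟶ R) (eW : (⊤ : (Spec R).Opens) ≤ (Spec.map φ ≫ Y.fromSpecStalk y) ⁻¹ᵁ US)
    (a : Γ(Y, US)) :
    (Spec.map φ ≫ Y.fromSpecStalk y).appLE US ⊤ eW a =
      (Scheme.ΓSpecIso R).inv (φ (Y.presheaf.germ US y hy a)) := by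
  have h1 : (Spec.map φ ≫ Y.fromSpecStalk y).appLE US ⊤ eW =
      Y.presheaf.germ US y hy ≫ φ ≫ (Scheme.ΓSpecIso R).inv := by
    rw [Scheme.Hom.comp_appLE, Scheme.fromSpecStalk_app hy]
    simp [Scheme.Hom.appLE, Scheme.ΓSpecIso_inv_naturality]
    congr 1
  rw [h1]
  rfl

theorem top_le_preimage {Y : Scheme.{u}} (y : Y) {US : Y.Opens} (hy : y ∈ US) {R : CommRingCat.{u}}
    (φ : Y.presheaf.stalk y ⟶ R) : (⊤ : (Spec R).Opens) ≤ (Spec.map φ ≫ Y.fromSpecStalk y) ⁻¹ᵁ US := by
  intro z _
  have hz : Y.fromSpecStalk y (Spec.map φ z) ∈ Set.range (Y.fromSpecStalk y) := ⟨_, rfl⟩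
  rw [Scheme.range_fromSpecStalk] at hz
  show (Spec.map φ ≫ Y.fromSpecStalk y) z ∈ US
  rw [Scheme.Hom.comp_apply]
  exact Specializes.mem_open hz US.2 hy

end Groth.Agent.Fibres16.FlatFamily
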